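import Cfsg.Agent.Lib.ClassSize.TwoRegular.Main
import Cfsg.Agent.Lib.ClassSize.ThreeSizesBasic
import Cfsg.Agent.Lib.ClassSize.GraphSplit
import Cfsg.Agent.S4034

/-!
# Groups whose class sizes are `1, n, m, nm` with `n`, `m` coprime: `n` and `m` are prime powers
-/

set_option autoImplicit false
set_option linter.style.haveILetI false
set_option linter.unusedSectionVars false

namespace CfsgLib.ClassSize.FourSizes

open Subgroup CfsgLib.ClassSize.Three

variable {G : Type*} [Group G]

/-- An element of order a power of `p`. -/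
def PEl (p : ℕ) (x : G) : Prop := ∃ k : ℕ, orderOf x = p ^ k

theorem PEl.conj {p : ℕ} {x : G} (h : PEl p x) (g : G) : PEl p (g * x * g⁻¹) := by
  obtain ⟨k, hk⟩ := h
  exact ⟨k, by rw [orderOf_conj, hk]⟩

theorem PEl.coprime {p q : ℕ} (hp : p.Prime) (hq : q.Prime) (hpq : p ≠ q) {x y : G}
    (hx : PEl p x) (hy : PEl q y) : (orderOf x).Coprime (orderOf y) := by
  obtain ⟨i, hi⟩ := hx
  obtain ⟨j, hj⟩ := hy
  rw [hi, hj]
  exact Nat.Coprime.pow i j ((Nat.coprime_primes hp hq).2 hpq)

theorem PEl.of_mem {p : ℕ} [Fact p.Prime] {P : Subgroup G} (hP : IsPGroup p P) {x : G}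
    (hx : x ∈ P) : PEl p x := by
  obtain ⟨k, hk⟩ := IsPGroup.iff_orderOf.1 hP ⟨x, hx⟩
  exact ⟨k, by rw [← hk, Subgroup.orderOf_mk]⟩

theorem Cz_le_of_mem_zpowers {x a : G} (ha : a ∈ zpowers x) : Cz x ≤ Cz a := by
  intro g hg
  obtain ⟨i, rfl⟩ := mem_zpowers_iff.1 ha
  exact mem_Cz.2 ((mem_Cz.1 hg).zpow_right i)

theorem Cz_le_iff_mem {x g : G} : x ∈ Cz g ↔ g ∈ Cz x :=
  ⟨fun h => mem_Cz.2 (mem_Cz.1 h).symm, fun h => mem_Cz.2 (mem_Cz.1 h).symm⟩

variable [Finite G]

theorem idx_ne_zero (x : G) : (Cz x).index ≠ 0 := Subgroup.index_ne_zero_of_finite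

theorem idx_eq_one_iff (x : G) : (Cz x).index = 1 ↔ x ∈ center G := index_Cz_eq_one_iff x

theorem idx_conj (g x : G) : (Cz (g * x * g⁻¹)).index = (Cz x).index :=
  GraphSplit.index_Cz_conj g x

/-- The `p`-parts of the order and the index of a subgroup. -/
theorem fact_add (H : Subgroup G) (p : ℕ) :
    (Nat.card H).factorization p + H.index.factorization p = (Nat.card G).factorization p := by
  rw [← Finsupp.add_apply, ← Nat.factorization_mul Nat.card_pos.ne'
    Subgroup.index_ne_zero_of_finite, card_mul_index]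

theorem fact_le_of_le {H K : Subgroup G} (h : H ≤ K) (p : ℕ) :
    (Nat.card H).factorization p ≤ (Nat.card K).factorization p :=
  (Nat.factorization_le_iff_dvd Nat.card_pos.ne' Nat.card_pos.ne').2 (card_dvd_of_le h) p

/-- If the centre contains the whole `p`-part of a subgroup, its `p`-elements are central. -/
theorem pel_mem_center {p : ℕ} [hp : Fact p.Prime] {H : Subgroup G} (hZ : center G ≤ H)
    (h : (Nat.card H).factorization p ≤ (Nat.card (center G)).factorization p) {w : G}
    (hwH : w ∈ H) (hw : PEl p w) : w ∈ center G := by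
  haveI : ((center G).subgroupOf H).Normal := inferInstance
  have h1 := ((center G).subgroupOf H).card_mul_index
  rw [Nat.card_congr (subgroupOfEquivOfLe hZ).toEquiv] at h1
  have hnd : ¬ p ∣ ((center G).subgroupOf H).index := by
    intro hd
    have h0 : ((center G).subgroupOf H).index ≠ 0 := index_ne_zero_of_finite
    have h2 := congrArg (fun k => k.factorization p) h1
    simp only [Nat.factorization_mul Nat.card_pos.ne' h0, Finsupp.add_apply] at h2
    have h3 := hp.out.factorization_pos_of_dvd h0 hd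
    omega
  obtain ⟨k, hk⟩ := hw
  have hd1 : orderOf (QuotientGroup.mk' ((center G).subgroupOf H) ⟨w, hwH⟩) ∣ p ^ k := by
    rw [← hk, ← Subgroup.orderOf_mk w hwH]
    exact orderOf_map_dvd _ _
  have hd2 : orderOf (QuotientGroup.mk' ((center G).subgroupOf H) ⟨w, hwH⟩) ∣
      ((center G).subgroupOf H).index := orderOf_dvd_natCard _
  have h1' := Nat.eq_one_of_dvd_coprimes
    (((hp.out.coprime_iff_not_dvd).2 hnd).pow_left k) hd1 hd2
  exact mem_subgroupOf.1 ((QuotientGroup.eq_one_iff (⟨w, hwH⟩ : H)).1 (orderOf_eq_one_iff.1 h1'))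

/-- If the `p`-elements of a subgroup are central, the centre contains its whole `p`-part. -/
theorem fact_le_center {p : ℕ} [hp : Fact p.Prime] {H : Subgroup G}
    (h : ∀ w ∈ H, PEl p w → w ∈ center G) :
    (Nat.card H).factorization p ≤ (Nat.card (center G)).factorization p := by
  obtain ⟨P⟩ := (inferInstance : Nonempty (Sylow p H))
  have hle : (P : Subgroup H).map H.subtype ≤ center G := by
    rintro _ ⟨w, hw, rfl⟩
    refine h _ w.2 ?_
    obtain ⟨k, hk⟩ := PEl.of_mem P.2 hw
    exact ⟨k, by rw [← hk]; exact Subgroup.orderOf_coe w⟩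
  have h1 := card_dvd_of_le hle
  rw [← Nat.card_congr (equivMapOfInjective _ H.subtype H.subtype_injective).toEquiv,
    P.card_eq_multiplicity] at h1
  exact (hp.out.pow_dvd_iff_le_factorization Nat.card_pos.ne').1 h1

/-- A subgroup is contained in another one as soon as its primary elements are. -/
theorem le_of_primary {H K : Subgroup G}
    (h : ∀ r : ℕ, r.Prime → ∀ a ∈ H, PEl r a → a ∈ K) : H ≤ K := fun _ hx =>
  GraphSplit.mem_of_primary fun r hr a ha hak => h r hr a (zpowers_le.2 hx ha) hak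

/-- The index of the centraliser of a product of commuting elements of coprime orders. -/
theorem relIndex_mul_idx {a b : G} (hab : Commute a b) (hco : (orderOf a).Coprime (orderOf b)) :
    (Cz b).relIndex (Cz a) * (Cz a).index = (Cz (a * b)).index := by
  rw [← inf_relIndex_right, relIndex_mul_index inf_le_right, Cz_mul_eq hab hco, inf_comm]

theorem idx_dvd_mul {a b : G} (hab : Commute a b) (hco : (orderOf a).Coprime (orderOf b)) :
    (Cz a).index ∣ (Cz (a * b)).index ∧ (Cz b).index ∣ (Cz (a * b)).index := by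
  rw [Cz_mul_eq hab hco]
  exact ⟨index_dvd_of_le inf_le_left, index_dvd_of_le inf_le_right⟩

/-- The class sizes are `1, n, m, n * m`. -/
structure Hyp (G : Type*) [Group G] (n m : ℕ) : Prop where
  hn : 1 < n
  hm : 1 < m
  cop : n.Coprime m
  sizes : ∀ x : G, (Cz x).index = 1 ∨ (Cz x).index = n ∨ (Cz x).index = m ∨ (Cz x).index = n * m
  exn : ∃ x : G, (Cz x).index = n
  exm : ∃ x : G, (Cz x).index = m
  exnm : ∃ x : G, (Cz x).index = n * m

namespace Hyp

variable {n m : ℕ} (h : Hyp G n m)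

include h

theorem symm : Hyp G m n :=
  ⟨h.hm, h.hn, h.cop.symm,
    fun x => by rw [mul_comm m n]; rcases h.sizes x with e | e | e | e <;> simp [e],
    h.exm, h.exn, by rw [mul_comm m n]; exact h.exnm⟩

theorem not_mem_center {x : G} (hx : (Cz x).index ≠ 1) : x ∉ center G :=
  fun hz => hx ((idx_eq_one_iff x).2 hz)

theorem not_mem_center_n {x : G} (hx : (Cz x).index = n) : x ∉ center G :=
  h.not_mem_center (by have := h.hn; omega)

theorem not_dvd_m : ¬ n ∣ m := fun hd => by
  have := h.hn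
  have h1 := Nat.dvd_gcd (dvd_refl n) hd
  rw [h.cop.gcd_eq_one, Nat.dvd_one] at h1
  omega

theorem eq_nm {x : G} (h1 : n ∣ (Cz x).index) (h2 : m ∣ (Cz x).index) :
    (Cz x).index = n * m := by
  rcases h.sizes x with e | e | e | e
  · rw [e, Nat.dvd_one] at h1; have := h.hn; omega
  · exact absurd (e ▸ h2) h.symm.not_dvd_m
  · exact absurd (e ▸ h1) h.not_dvd_m
  · exact e

theorem eq_n {x : G} (h1 : (Cz x).index ∣ n) (hx : x ∉ center G) : (Cz x).index = n := by
  rcases h.sizes x with e | e | e | e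
  · exact absurd ((idx_eq_one_iff x).1 e) hx
  · exact e
  · exact absurd (e ▸ h1) h.symm.not_dvd_m
  · exact absurd (dvd_trans (dvd_mul_left m n) (e ▸ h1)) h.symm.not_dvd_m

theorem eq_m_of_not_dvd {x : G} (h1 : ¬ n ∣ (Cz x).index) (hx : x ∉ center G) :
    (Cz x).index = m := by
  rcases h.sizes x with e | e | e | e
  · exact absurd ((idx_eq_one_iff x).1 e) hx
  · exact absurd (e ▸ dvd_refl n) h1
  · exact e
  · exact absurd (e ▸ dvd_mul_right n m) h1

theorem n_dvd_of_prime {s : ℕ} (hs : s.Prime) (hsn : s ∣ n) {x : G} (hd : s ∣ (Cz x).index) :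
    n ∣ (Cz x).index := by
  rcases h.sizes x with e | e | e | e
  · rw [e, Nat.dvd_one] at hd; exact absurd hd hs.ne_one
  · exact dvd_of_eq e.symm
  · exfalso
    have h1 := Nat.dvd_gcd hsn (e ▸ hd)
    rw [h.cop.gcd_eq_one, Nat.dvd_one] at h1
    exact hs.ne_one h1
  · exact e ▸ dvd_mul_right n m

theorem not_dvd_of_dvd_m {s : ℕ} (hs : s.Prime) (hsm : s ∣ m) : ¬ s ∣ n := fun hsn => by
  have h1 := Nat.dvd_gcd hsn hsm
  rw [h.cop.gcd_eq_one, Nat.dvd_one] at h1
  exact hs.ne_one h1

/-- An element whose centraliser contains that of an element with class size `n`. -/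
theorem Cz_eq_of_le {x z : G} (hx : (Cz x).index = n) (hle : Cz x ≤ Cz z) (hz : z ∉ center G) :
    Cz z = Cz x ∧ (Cz z).index = n := by
  have e := h.eq_n (hx ▸ index_dvd_of_le hle) hz
  refine ⟨(eq_of_le_of_card_ge hle ?_).symm, e⟩
  have h1 := (Cz x).card_mul_index
  rw [← (Cz z).card_mul_index, hx, e] at h1
  exact le_of_eq (Nat.eq_of_mul_eq_mul_right (by have := h.hn; omega) h1).symm

/-- Some element of prime power order has class size `n`. -/
theorem exists_primary_n : ∃ (q : ℕ) (u : G), q.Prime ∧ PEl q u ∧ (Cz u).index = n := by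
  obtain ⟨x, hx⟩ := h.exn
  obtain ⟨q, hq, a, ha, haZ, hak⟩ := exists_primary_noncentral (h.not_mem_center_n hx)
  exact ⟨q, a, hq, hak, h.eq_n (hx ▸ index_dvd_of_le (Cz_le_of_mem_zpowers ha)) haZ⟩

/-- No element with class size `n` has an abelian centraliser. -/
theorem not_comm {x : G} (hx : (Cz x).index = n)
    (hab : ∀ a ∈ Cz x, ∀ b ∈ Cz x, Commute a b) : False := by
  obtain ⟨y, hy⟩ := h.exm
  have hD : (Cz x ⊓ Cz y).index = n * m := by
    refine le_antisymm ?_ (Nat.le_of_dvd (Nat.pos_of_ne_zero index_ne_zero_of_finite)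
      (h.cop.mul_dvd_of_dvd_of_dvd (hx ▸ index_dvd_of_le inf_le_left)
        (hy ▸ index_dvd_of_le inf_le_right)))
    exact hx ▸ hy ▸ index_inf_le
  have hle : Cz x ⊓ Cz y ≤ center G := by
    intro z hz
    by_contra hzZ
    have hxz : Cz x ≤ Cz z := fun a ha => mem_Cz.2 (hab a ha z hz.1)
    have hyx : y ∈ Cz x := (h.Cz_eq_of_le hx hxz hzZ).1 ▸ Cz_le_iff_mem.1 hz.2
    have hxy : Cz x ≤ Cz y := fun a ha => mem_Cz.2 (hab a ha y hyx)
    have h1 := index_dvd_of_le hxy
    rw [hx, hy] at h1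
    exact h.symm.not_dvd_m h1
  obtain ⟨g, hg⟩ := h.exnm
  have h1 : n * m ∣ (center G).index := hg ▸ index_dvd_of_le (center_le_Cz g)
  have h2 : (center G).index ∣ n * m := hD ▸ index_dvd_of_le hle
  have heq : center G = Cz g := by
    refine eq_of_le_of_card_ge (center_le_Cz g) (le_of_eq ?_)
    have e := (Cz g).card_mul_index
    rw [← (center G).card_mul_index, hg, Nat.dvd_antisymm h2 h1] at e
    exact Nat.eq_of_mul_eq_mul_right (Nat.mul_pos (by have := h.hn; omega) (by have := h.hm; omega)) e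
  have hgZ : g ∈ center G := heq ▸ mem_Cz_self g
  rw [← idx_eq_one_iff, hg, mul_eq_one] at hgZ
  have := h.hn
  omega

/-- The centraliser of an element with class size `n` has a non-central `s`-element for every
prime `s` dividing `n`. -/
theorem exists_noncentral_pel {x : G} (hx : (Cz x).index = n) {s : ℕ} (hs : s.Prime)
    (hsn : s ∣ n) : ∃ z ∈ Cz x, PEl s z ∧ z ∉ center G := by
  haveI := Fact.mk hs
  by_contra hno'
  have hno : ∀ z ∈ Cz x, PEl s z → z ∈ center G := fun z hz hz' =>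
    by_contra fun hc => hno' ⟨z, hz, hz', hc⟩
  have hn0 : n ≠ 0 := by have := h.hn; omega
  have hm0 : m ≠ 0 := by have := h.hm; omega
  have hxv := fact_le_center hno
  have hbig : ∀ g : G, n ∣ (Cz g).index → ∀ w ∈ Cz g, PEl s w → w ∈ center G := by
    intro g hg w hw hw'
    refine pel_mem_center (center_le_Cz g) ?_ hw hw'
    have h1 := fact_add (Cz g) s
    have h2 := fact_add (Cz x) s
    have h3 : n.factorization s ≤ (Cz g).index.factorization s :=
      (Nat.factorization_le_iff_dvd hn0 (idx_ne_zero g)).2 hg s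
    rw [hx] at h2
    omega
  have hm' : ∀ w : G, PEl s w → w ∉ center G → (Cz w).index = m := fun w hw hwZ =>
    h.eq_m_of_not_dvd (fun hd => hwZ (hbig w hd w (mem_Cz_self w) hw)) hwZ
  -- a non-central `s`-element
  obtain ⟨y, hys, hyZ⟩ : ∃ y : G, PEl s y ∧ y ∉ center G := by
    by_contra hall'
    obtain ⟨S⟩ := (inferInstance : Nonempty (Sylow s G))
    refine ((exists_sylow_le_centralizer_iff s x).1 ⟨S, fun w hw => ?_⟩) (hx ▸ hsn)
    refine center_le_Cz x ?_
    by_contra hwZ
    exact hall' ⟨w, PEl.of_mem S.2 hw, hwZ⟩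
  have hy := hm' y hys hyZ
  have hstep : ∀ r : ℕ, r.Prime → r ≠ s → ∀ w ∈ Cz y, PEl r w → w ∉ center G →
      Cz w = Cz y := by
    intro r hr hrs w hw hwr hwZ
    have hc : Commute w y := mem_Cz.1 hw
    obtain ⟨h1, h2⟩ := idx_dvd_mul hc (hwr.coprime hr hs hrs hys)
    have hwm : (Cz w).index = m := by
      refine h.eq_m_of_not_dvd (fun hd => ?_) hwZ
      exact hyZ (hbig w hd y (mem_Cz.2 hc.symm) hys)
    have h3 : ¬ n ∣ (Cz (w * y)).index := fun hd => by
      refine hyZ (hbig _ hd y (mem_Cz.2 ?_) hys)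
      exact (hc.symm).mul_right (Commute.refl y)
    have h4 : (Cz (w * y)).index = m := h.eq_m_of_not_dvd h3 fun hz => by
      rw [(idx_eq_one_iff _).2 hz, hwm, Nat.dvd_one] at h1
      have := h.hm; omega
    have e := Cz_mul_eq hc (hwr.coprime hr hs hrs hys)
    have hwy : Cz w ⊓ Cz y = Cz y :=
      eq_of_le_of_card_ge inf_le_right (by
        have e1 := (Cz w ⊓ Cz y).card_mul_index
        rw [← (Cz y).card_mul_index, ← e, h4, hy] at e1
        rw [← e]
        exact le_of_eq (Nat.eq_of_mul_eq_mul_right (by have := h.hm; omega) e1).symm)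
    exact (h.symm.Cz_eq_of_le hy (hwy ▸ inf_le_left) hwZ).1
  by_cases hex : ∃ (r : ℕ) (w : G), r.Prime ∧ r ≠ s ∧ w ∈ Cz y ∧ PEl r w ∧ w ∉ center G
  · obtain ⟨r, w, hr, hrs, hw, hwr, hwZ⟩ := hex
    have hCw := hstep r hr hrs w hw hwr hwZ
    refine h.symm.not_comm hy fun a ha b hb => ?_
    have hkey : ∀ t : ℕ, t.Prime → ∀ v ∈ Cz y, PEl t v → Cz y ≤ Cz v := by
      intro t ht v hv hvt
      by_cases hvZ : v ∈ center G
      · exact fun a _ => mem_Cz.2 (mem_center_iff.1 hvZ a)
      by_cases hts : t = s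
      · subst hts
        have hvm := hm' v hvt hvZ
        have hv' : v ∈ Cz w := hCw.symm ▸ hv
        have hc : Commute w v := (mem_Cz.1 hv').symm
        obtain ⟨h1, h2⟩ := idx_dvd_mul hc (hwr.coprime hr hs hrs hvt)
        have h3 : ¬ n ∣ (Cz (w * v)).index := fun hd => by
          refine hvZ (hbig _ hd v (mem_Cz.2 ?_) hvt)
          exact (hc.symm).mul_right (Commute.refl v)
        have h4 : (Cz (w * v)).index = m := h.eq_m_of_not_dvd h3 fun hz => by
          rw [(idx_eq_one_iff _).2 hz, hvm, Nat.dvd_one] at h2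
          have := h.hm; omega
        have e := Cz_mul_eq hc (hwr.coprime hr hs hrs hvt)
        have hwv : Cz w ⊓ Cz v = Cz w :=
          eq_of_le_of_card_ge inf_le_left (by
            have e1 := (Cz w ⊓ Cz v).card_mul_index
            rw [← (Cz w).card_mul_index, ← e, h4, hCw, hy] at e1
            rw [← e, hCw]
            exact le_of_eq (Nat.eq_of_mul_eq_mul_right (by have := h.hm; omega) e1).symm)
        exact hCw ▸ hwv ▸ inf_le_right
      · exact le_of_eq (hstep t ht hts v hv hvt hvZ).symm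
    have hc : Cz y ≤ Subgroup.centralizer ((Cz y : Subgroup G) : Set G) :=
      le_of_primary fun t ht v hv hvt => Subgroup.mem_centralizer_iff.2 fun c hc =>
        (mem_Cz.1 (hkey t ht v hv hvt hc)).eq
    exact (Subgroup.mem_centralizer_iff.1 (hc ha) b hb).symm
  · obtain ⟨g, hg⟩ := h.exnm
    have hle : Cz g ≤ center G := by
      refine le_of_primary fun r hr w hw hwr => ?_
      haveI := Fact.mk hr
      by_cases hrs : r = s
      · subst hrs
        exact hbig g (hg ▸ dvd_mul_right n m) w hw hwr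
      refine pel_mem_center (center_le_Cz g) ?_ hw hwr
      have hyr : (Nat.card (Cz y)).factorization r ≤ (Nat.card (center G)).factorization r :=
        fact_le_center fun v hv hvr => by_contra fun hvZ => hex ⟨r, v, hr, hrs, hv, hvr, hvZ⟩
      have h1 := fact_add (Cz g) r
      have h2 := fact_add (Cz y) r
      rw [hg, Nat.factorization_mul hn0 hm0, Finsupp.add_apply] at h1
      rw [hy] at h2
      omega
    have hgZ : g ∈ center G := hle (mem_Cz_self g)
    rw [← idx_eq_one_iff, hg, mul_eq_one] at hgZ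
    have := h.hn
    omega

theorem inner_sizes {x v : G} (hx : (Cz x).index = n) (hc : Commute x v)
    (hco : (orderOf x).Coprime (orderOf v)) :
    (Cz v).relIndex (Cz x) = 1 ∨ (Cz v).relIndex (Cz x) = m := by
  have e := relIndex_mul_idx hc hco
  rw [hx] at e
  have hn0 : 0 < n := by have := h.hn; omega
  rcases h.sizes (x * v) with e' | e' | e' | e' <;> rw [e'] at e
  · exact absurd (Nat.dvd_one.1 (Dvd.intro_left _ e)) (by have := h.hn; omega)
  · exact Or.inl (Nat.eq_of_mul_eq_mul_right hn0 (e.trans (one_mul n).symm))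
  · exact absurd (Dvd.intro_left _ e) h.not_dvd_m
  · exact Or.inr (Nat.eq_of_mul_eq_mul_right hn0 (e.trans (mul_comm n m)))

/-- The three possibilities for the centraliser of a primary element with class size `n`. -/
theorem centralizer_cases {q : ℕ} (hq : q.Prime) {x : G} (hxq : PEl q x)
    (hx : (Cz x).index = n) :
    (∀ t : ℕ, t.Prime → t ≠ q → ∀ w ∈ Cz x, PEl t w → Cz x ≤ Cz w) ∨ IsPrimePow m ∨
    ∃ r : ℕ, r.Prime ∧ r ≠ q ∧ (∀ t : ℕ, t.Prime → t ∣ m → t = q ∨ t = r) ∧
      ∀ t : ℕ, t.Prime → t ≠ q → t ≠ r → ∀ w ∈ Cz x, PEl t w → Cz x ≤ Cz w := by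
  haveI := Fact.mk hq
  set C := Cz x with hC
  have hidx : ∀ v : C, (TwoRegular.cent v).index = (Cz (v : G)).relIndex C := fun v => by
    rw [Subgroup.relIndex]
    congr 1
    ext w
    simp [TwoRegular.cent, mem_subgroupOf, Subgroup.mem_centralizer_singleton_iff, Subtype.ext_iff]
  have hsz : ∀ v : C, (orderOf v).Coprime q →
      (Cz (v : G)).relIndex C = 1 ∨ (Cz (v : G)).relIndex C = m := by
    intro v hv
    obtain ⟨k, hk⟩ := hxq
    refine h.inner_sizes hx (mem_Cz.1 v.2).symm ?_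
    rw [hk, Subgroup.orderOf_coe]
    exact hv.symm.pow_left k
  by_cases hall : ∀ v : C, (orderOf v).Coprime q → (Cz (v : G)).relIndex C = 1
  · refine Or.inl fun t ht htq w hw hwt => relIndex_eq_one.1 (hall ⟨w, hw⟩ ?_)
    obtain ⟨k, hk⟩ := hwt
    rw [Subgroup.orderOf_mk, hk]
    exact ((Nat.coprime_primes ht hq).2 htq).pow_left k
  right
  simp only [not_forall] at hall
  obtain ⟨v₀, hv₀, hv₀1⟩ := hall
  have hv₀m := (hsz v₀ hv₀).resolve_left hv₀1
  have h2 : Set.ncard (Set.range fun v : {v : C // (orderOf v).Coprime q} =>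
      (ConjClasses.mk (v : C)).carrier.ncard) = 2 := by
    have hr : (Set.range fun v : {v : C // (orderOf v).Coprime q} =>
        (ConjClasses.mk (v : C)).carrier.ncard) = {1, m} := by
      ext k
      simp only [TwoRegular.carrier_ncard, hidx, Set.mem_range, Set.mem_insert_iff,
        Set.mem_singleton_iff]
      constructor
      · rintro ⟨⟨v, hv⟩, rfl⟩
        exact hsz v hv
      · rintro (rfl | rfl)
        · refine ⟨⟨1, by simp⟩, relIndex_eq_one.2 fun w _ => ?_⟩
          exact mem_Cz.2 (by simp)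
        · exact ⟨⟨v₀, hv₀⟩, hv₀m⟩
    rw [hr]
    exact Set.ncard_pair (by have := h.hm; omega)
  rcases TwoRegular.main hq h2 with hab | ⟨r, hrf, P, R, A, hrq, hA, hcard, hPRn, hinf, hsup⟩
  · left
    obtain ⟨k, hk⟩ := (Cfsg.Agent.S4034.result hq).2 hab v₀ hv₀
    rw [TwoRegular.carrier_ncard, hidx, hv₀m] at hk
    exact ⟨q, k, hq.prime, Nat.pos_of_ne_zero fun h0 => by
      rw [h0, pow_zero] at hk; have := h.hm; omega, hk.symm⟩
  · right
    refine ⟨r, hrf.out, hrq, fun t ht htm => ?_, fun t ht htq htr w hw hwt => ?_⟩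
    · have hcomp : IsComplement' A ((P : Subgroup C) ⊔ (R : Subgroup C)) := by
        refine isComplement'_of_disjoint_and_mul_eq_univ (disjoint_iff.2 (by rw [inf_comm]; exact hinf)) ?_
        haveI := hPRn
        rw [← Subgroup.mul_normal, sup_comm, hsup, coe_top]
      have hAv : A ≤ TwoRegular.cent v₀ := fun a ha => mem_centralizer_singleton_iff.2
        (mem_center_iff.1 (hA ha) v₀).symm
      have h1 := index_dvd_of_le hAv
      rw [hidx, hv₀m, hcomp.symm.index_eq_card, hcard] at h1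
      obtain ⟨i, hi⟩ := IsPGroup.iff_card.1 P.2
      obtain ⟨j, hj⟩ := IsPGroup.iff_card.1 R.2
      rcases ht.dvd_mul.1 (htm.trans h1) with hd | hd
      · rw [hi] at hd
        exact Or.inl ((Nat.prime_dvd_prime_iff_eq ht hq).1 (ht.dvd_of_dvd_pow hd))
      · rw [hj] at hd
        exact Or.inr ((Nat.prime_dvd_prime_iff_eq ht hrf.out).1 (ht.dvd_of_dvd_pow hd))
    · obtain ⟨k, hk⟩ := hwt
      have hmem : (⟨w, hw⟩ : C) ∈ ((P : Subgroup C) ⊔ (R : Subgroup C)) ⊔ A := hsup ▸ mem_top _
      haveI := hPRn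
      rw [← SetLike.mem_coe, Subgroup.normal_mul, Set.mem_mul] at hmem
      obtain ⟨a, ha, b, hb, hab⟩ := hmem
      have hcab : Commute a b := mem_center_iff.1 (hA hb) a
      have hw1 : (⟨w, hw⟩ : C) ^ t ^ k = 1 := by
        rw [← hk, ← Subgroup.orderOf_mk w hw, pow_orderOf_eq_one]
      rw [← hab, hcab.mul_pow] at hw1
      have ha1 : a ^ t ^ k = 1 := by
        have hm1 : a ^ t ^ k ∈ ((P : Subgroup C) ⊔ (R : Subgroup C)) ⊓ A :=
          ⟨Subgroup.pow_mem _ ha _, by rw [eq_inv_of_mul_eq_one_left hw1]; exact Subgroup.inv_mem _ (Subgroup.pow_mem _ hb _)⟩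
        rwa [hinf, mem_bot] at hm1
      have hcop : (t ^ k).Coprime (Nat.card P * Nat.card R) := by
        obtain ⟨i, hi⟩ := IsPGroup.iff_card.1 P.2
        obtain ⟨j, hj⟩ := IsPGroup.iff_card.1 R.2
        rw [hi, hj]
        exact (Nat.Coprime.pow k i ((Nat.coprime_primes ht hq).2 htq)).mul_right
          (Nat.Coprime.pow k j ((Nat.coprime_primes ht hrf.out).2 htr))
      have haeq : a = 1 := orderOf_eq_one_iff.1 (Nat.eq_one_of_dvd_coprimes hcop
        (orderOf_dvd_of_pow_eq_one ha1) (hcard ▸ Subgroup.orderOf_dvd_natCard _ ha))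
      rw [haeq, one_mul] at hab
      intro g hg
      have h3 : (⟨w, hw⟩ : C) ∈ center C := hab ▸ hA hb
      exact mem_Cz.2 (congrArg Subtype.val (mem_center_iff.1 h3 ⟨g, hg⟩))

theorem exists_pel_in_of_prime {x : G} (hx : (Cz x).index = n) {r : ℕ} (hr : r.Prime)
    (hrm : r ∣ m) : ∃ w ∈ Cz x, PEl r w ∧ w ∉ center G := by
  haveI := Fact.mk hr
  obtain ⟨S, hS⟩ := (exists_sylow_le_centralizer_iff r x).2
    (fun hd => h.not_dvd_of_dvd_m hr hrm (hx ▸ hd))
  by_contra hno
  obtain ⟨y, hy⟩ := h.exm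
  refine (exists_sylow_le_centralizer_iff r y).1 ⟨S, fun w hw => center_le_Cz y ?_⟩ (hy ▸ hrm)
  by_contra hwZ
  exact hno ⟨w, hS hw, PEl.of_mem S.2 hw, hwZ⟩

/-- If `m` is not a prime power, every primary element with class size `n` has order dividing a
power of a prime divisor of `m`. -/
theorem dvd_m_of_not_primePow (hmp : ¬ IsPrimePow m) {q : ℕ} (hq : q.Prime) {x : G}
    (hxq : PEl q x) (hx : (Cz x).index = n) : q ∣ m := by
  have hm1 : m ≠ 1 := by have := h.hm; omega
  have htwo : ∀ a b : ℕ, (∀ t : ℕ, t.Prime → t ∣ m → t = a ∨ t = b) → a.Prime → ¬ a ∣ m →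
      False := by
    intro a b hab ha hna
    apply hmp
    obtain ⟨t, ht, htm⟩ := Nat.exists_prime_and_dvd hm1
    exact isPrimePow_iff_unique_prime_dvd.2 ⟨t, ⟨ht, htm⟩, fun d hd =>
      ((hab d hd.1 hd.2).resolve_left fun e => hna (e ▸ hd.2)).trans
        ((hab t ht htm).resolve_left fun e => hna (e ▸ htm)).symm⟩
  rcases h.centralizer_cases hq hxq hx with hcen | hpp | ⟨r, hr, hrq, hmr, -⟩
  · by_contra hqm
    obtain ⟨r, hr, hrm⟩ := Nat.exists_prime_and_dvd hm1
    have hrq : r ≠ q := fun e => hqm (e ▸ hrm)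
    obtain ⟨w, hw, hwr, hwZ⟩ := h.exists_pel_in_of_prime hx hr hrm
    obtain ⟨hCw, hwn⟩ := h.Cz_eq_of_le hx (hcen r hr hrq w hw hwr) hwZ
    have hqcen : ∀ v ∈ Cz x, PEl q v → Cz x ≤ Cz v := by
      rcases h.centralizer_cases hr hwr hwn with hcen' | hpp | ⟨r', hr', hr'r, hmr', hcen'⟩
      · intro v hv hvq
        have := hcen' q hq (Ne.symm hrq) v (hCw.symm ▸ hv) hvq
        rwa [hCw] at this
      · exact absurd hpp hmp
      · intro v hv hvq
        have hqr' : q ≠ r' := by
          intro e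
          subst e
          exact htwo q r (fun t ht htm => (hmr' t ht htm).symm) hq hqm
        have := hcen' q hq (Ne.symm hrq) hqr' v (hCw.symm ▸ hv) hvq
        rwa [hCw] at this
    refine h.not_comm hx fun a ha b hb => ?_
    have hc : Cz x ≤ Subgroup.centralizer ((Cz x : Subgroup G) : Set G) :=
      le_of_primary fun t ht v hv hvt => Subgroup.mem_centralizer_iff.2 fun c hc => by
        by_cases htq : t = q
        · exact (mem_Cz.1 (hqcen v hv (htq ▸ hvt) hc)).eq
        · exact (mem_Cz.1 (hcen t ht htq v hv hvt hc)).eq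
    exact (Subgroup.mem_centralizer_iff.1 (hc ha) b hb).symm
  · exact absurd hpp hmp
  · by_contra hqm
    exact htwo q r hmr hq hqm

theorem isPrimePow_m : IsPrimePow m := by
  by_contra hmp
  obtain ⟨q, x, hq, hxq, hx⟩ := h.exists_primary_n
  obtain ⟨s, hs, hsn⟩ := Nat.exists_prime_and_dvd (show n ≠ 1 by have := h.hn; omega)
  obtain ⟨z, hz, hzs, hzZ⟩ := h.exists_noncentral_pel hx hs hsn
  have hsm : ¬ s ∣ m := fun hd => h.not_dvd_of_dvd_m hs hd hsn
  have hqm := h.dvd_m_of_not_primePow hmp hq hxq hx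
  have hsq : s ≠ q := fun e => hsm (e ▸ hqm)
  have hzn : Cz x ≤ Cz z := by
    rcases h.centralizer_cases hq hxq hx with hcen | hpp | ⟨r, hr, hrq, hmr, hcen⟩
    · exact hcen s hs hsq z hz hzs
    · exact absurd hpp hmp
    · refine hcen s hs hsq (fun e => ?_) z hz hzs
      subst e
      apply hmp
      exact isPrimePow_iff_unique_prime_dvd.2 ⟨q, ⟨hq, hqm⟩, fun d hd =>
        (hmr d hd.1 hd.2).resolve_right fun e => hsm (e ▸ hd.2)⟩
  exact hsm (h.dvd_m_of_not_primePow hmp hs hzs (h.Cz_eq_of_le hx hzn hzZ).2)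

end Hyp

end CfsgLib.ClassSize.FourSizes
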