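import Cfsg.Agent.Lib.ClassSize.FourSizes.Final

/-!
# Class sizes `1, n, m, nm` with coprime `n`, `m`: the group is nilpotent
-/

set_option autoImplicit false
set_option linter.style.haveILetI false
set_option linter.unusedSectionVars false

open scoped Pointwise

namespace CfsgLib.ClassSize.FourSizes

open Subgroup CfsgLib.ClassSize.Three

variable {G : Type*} [Group G] [Finite G]

/-- A subgroup covered by two subgroups is contained in one of them. -/
theorem le_or_le_of_forall {H A B : Subgroup G} (hcov : ∀ v ∈ H, v ∈ A ∨ v ∈ B) : H ≤ A ∨ H ≤ B := by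
  by_contra hno
  rw [not_or, SetLike.not_le_iff_exists, SetLike.not_le_iff_exists] at hno
  obtain ⟨⟨a, ha, haA⟩, ⟨b, hb, hbB⟩⟩ := hno
  have haB := (hcov a ha).resolve_left haA
  have hbA := (hcov b hb).resolve_right hbB
  rcases hcov (a * b) (mul_mem ha hb) with hab | hab
  · exact haA ((Subgroup.mul_mem_cancel_right A hbA).1 hab)
  · exact hbB ((Subgroup.mul_mem_cancel_left B haB).1 hab)

namespace NN

variable {n m s q : ℕ} (h : NN G n m s q)

include h

theorem false_of_pCore (hN : ¬ Cfsg.pCore q G ≤ center G) : False := by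
  haveI := Fact.mk h.pp.hs
  haveI := Fact.mk h.pp.hr
  haveI := CfsgLib.Solvable.pCore_normal q G
  haveI := CfsgLib.Solvable.pCore_normal s G
  obtain ⟨x, y, hxN, hxq, hx, hyM, hys, hy, hMab, hMel⟩ := h.half hN
  have hyZ : y ∉ center G := h.pp.hyp.symm.not_mem_center_n hy
  obtain ⟨-, -, -, -, -, -, -, -, hNab, hNel⟩ := h.symm.half fun hle => hyZ (hle hyM)
  set N := Cfsg.pCore q G with hNdef
  set M := Cfsg.pCore s G with hMdef
  have hVN : coreCenter q G = N :=
    inf_eq_left.2 fun a ha => mem_centralizer_iff.2 fun b hb => (hNab b hb a ha).eq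
  have hVM : coreCenter s G = M :=
    inf_eq_left.2 fun a ha => mem_centralizer_iff.2 fun b hb => (hMab b hb a ha).eq
  rw [hVN] at hMel
  rw [hVM] at hNel
  have hMN : M ≤ Subgroup.centralizer (N : Set G) := fun v hv => mem_centralizer_iff.2 fun w hw =>
    Subgroup.commute_of_normal_of_disjoint N M inferInstance inferInstance
      (IsPGroup.disjoint_of_ne q s h.pp.ne.symm _ _ (CfsgLib.Solvable.pCore_isPGroup q G)
        (CfsgLib.Solvable.pCore_isPGroup s G)) w v hw hv
  obtain ⟨i, hi⟩ := IsPGroup.iff_card.1 (CfsgLib.Solvable.pCore_isPGroup s G : IsPGroup s M)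
  have hMx : M ≤ Cz x := fun v hv => mem_Cz.2 (mem_centralizer_iff.1 (hMN hv) x hxN).symm
  have hie : i ≤ (Nat.card (Cz x)).factorization s := by
    have h1 := fact_le_of_le hMx s
    rwa [hi, Nat.Prime.factorization_pow h.pp.hs, Finsupp.single_eq_same] at h1
  -- every `q`-element centralises `N` or `M`
  have hcov : ∀ u : G, PEl q u →
      u ∈ Subgroup.centralizer (N : Set G) ∨ u ∈ Subgroup.centralizer (M : Set G) := by
    intro u hu
    by_cases hnm : (Cz u).index = n * m
    · right
      obtain ⟨R⟩ := (inferInstance : Nonempty (Sylow s (Cz u)))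
      set R' : Subgroup G := (R : Subgroup (Cz u)).map (Cz u).subtype with hR'
      have hR'M : R' ≤ M := by
        intro v hv
        have hvu : v ∈ Cz u := map_subtype_le _ hv
        have hvs : PEl s v := PEl.of_mem (R.2.map _) hv
        refine hMel v hvs ?_
        obtain ⟨k, hk⟩ := id hu
        have hP : IsPGroup q (zpowers u) :=
          IsPGroup.of_card (n := k) (by rw [Nat.card_zpowers, hk])
        obtain ⟨j, hj⟩ := id hvs
        have hle := CfsgLib.PLoc.commute_of_pxq (Q := N) (x := v) hP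
          (CfsgLib.Solvable.pCore_isPGroup q G) (by rw [normalizer_eq_top]; exact le_top)
          (by rw [normalizer_eq_top]; exact mem_top _)
          (mem_centralizer_iff.2 fun w hw => by
            obtain ⟨z, rfl⟩ := mem_zpowers_iff.1 hw
            exact (((mem_Cz.1 hvu).symm).zpow_left z).eq)
          (by rw [hj]; exact ((Nat.coprime_primes h.pp.hs h.pp.hr).2 h.pp.ne).pow_left j)
          (fun w hw => by
            have hwu : w ∈ Cz u :=
              mem_Cz.2 (mem_centralizer_iff.1 hw.2 u (mem_zpowers u)).symm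
            exact mem_centralizer_singleton_iff.2 (h.comm_of_nm hu hnm hwu hvu).eq)
        exact mem_centralizer_iff.2 fun w hw => mem_centralizer_singleton_iff.1 (hle hw)
      have heq : R' = M := eq_of_le_of_card_ge hR'M (by
        rw [hi, hR', ← Nat.card_congr (equivMapOfInjective _ _ (Cz u).subtype_injective).toEquiv,
          R.card_eq_multiplicity, h.fact_cent (hnm ▸ dvd_mul_right n m) (dvd_of_eq hx.symm)]
        exact Nat.pow_le_pow_right h.pp.hs.pos hie)
      exact mem_centralizer_iff.2 fun v hv =>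
        (mem_Cz.1 (map_subtype_le _ (heq.symm ▸ hv : v ∈ R') : v ∈ Cz u)).eq
    · left
      by_cases huZ : u ∈ center G
      · exact center_le_centralizer _ huZ
      have hun : (Cz u).index = n := by
        rcases h.pp.hyp.sizes u with e | e | e | e
        · exact absurd ((idx_eq_one_iff u).1 e) huZ
        · exact e
        · exact absurd e (h.noQ u hu)
        · exact absurd e hnm
      exact mem_centralizer_iff.2 fun w hw => (mem_Cz.1 (h.pCore_le_Cz hu hun hw)).eq
  have hQN : ∀ Q : Sylow q G, (Q : Subgroup G) ≤ Subgroup.centralizer (N : Set G) := by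
    intro Q
    rcases le_or_le_of_forall (fun v hv => hcov v (PEl.of_mem Q.2 hv)) with h1 | h1
    · exact h1
    · exfalso
      exact (exists_sylow_le_centralizer_iff q y).1 ⟨Q, fun v hv =>
        mem_Cz.2 (mem_centralizer_iff.1 (h1 hv) y hyM).symm⟩ (hy ▸ h.pp.symm.s_dvd_n)
  have hQCN : ∀ u : G, PEl q u → u ∈ Subgroup.centralizer (N : Set G) := by
    rintro u ⟨k, hk⟩
    obtain ⟨Q, hQ⟩ := (IsPGroup.of_card (n := k) (by rw [Nat.card_zpowers, hk]) :
      IsPGroup q (zpowers u)).exists_le_sylow
    exact hQN Q (hQ (mem_zpowers u))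
  -- every `s`-element centralises `M`
  have hSM : ∀ v : G, PEl s v → v ∈ Subgroup.centralizer (M : Set G) := by
    -- by symmetry
    have hcov' : ∀ v : G, PEl s v →
        v ∈ Subgroup.centralizer (N : Set G) ∨ v ∈ Subgroup.centralizer (M : Set G) := by
      intro v hv
      by_cases hc : (Cz v).index = n * m
      · left
        obtain ⟨R⟩ := (inferInstance : Nonempty (Sylow q (Cz v)))
        set R' : Subgroup G := (R : Subgroup (Cz v)).map (Cz v).subtype with hR'
        have hc' : (Cz v).index = m * n := by rw [hc, mul_comm]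
        have hR'N : R' ≤ N := by
          intro w hw
          have hwv : w ∈ Cz v := map_subtype_le _ hw
          have hwq : PEl q w := PEl.of_mem (R.2.map _) hw
          refine hNel w hwq ?_
          obtain ⟨k, hk⟩ := id hv
          have hP : IsPGroup s (zpowers v) :=
            IsPGroup.of_card (n := k) (by rw [Nat.card_zpowers, hk])
          obtain ⟨j, hj⟩ := id hwq
          have hle := CfsgLib.PLoc.commute_of_pxq (Q := M) (x := w) hP
            (CfsgLib.Solvable.pCore_isPGroup s G) (by rw [normalizer_eq_top]; exact le_top)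
            (by rw [normalizer_eq_top]; exact mem_top _)
            (mem_centralizer_iff.2 fun a ha => by
              obtain ⟨z, rfl⟩ := mem_zpowers_iff.1 ha
              exact (((mem_Cz.1 hwv).symm).zpow_left z).eq)
            (by rw [hj]; exact ((Nat.coprime_primes h.pp.hr h.pp.hs).2 h.pp.ne.symm).pow_left j)
            (fun a ha => by
              have hav : a ∈ Cz v :=
                mem_Cz.2 (mem_centralizer_iff.1 ha.2 v (mem_zpowers v)).symm
              exact mem_centralizer_singleton_iff.2 (h.symm.comm_of_nm hv hc' hav hwv).eq)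
          exact mem_centralizer_iff.2 fun a ha => mem_centralizer_singleton_iff.1 (hle ha)
        have hNy : N ≤ Cz y := fun w hw =>
          mem_Cz.2 (mem_centralizer_iff.1 (hMN hyM) w hw)
        have heq : R' = N := eq_of_le_of_card_ge hR'N (by
          obtain ⟨j, hj⟩ := IsPGroup.iff_card.1 (CfsgLib.Solvable.pCore_isPGroup q G : IsPGroup q N)
          have h1 := fact_le_of_le hNy q
          rw [hj, Nat.Prime.factorization_pow h.pp.hr, Finsupp.single_eq_same] at h1
          rw [hj, hR', ← Nat.card_congr (equivMapOfInjective _ _ (Cz v).subtype_injective).toEquiv,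
            R.card_eq_multiplicity, h.symm.fact_cent (hc' ▸ dvd_mul_right m n) (dvd_of_eq hy.symm)]
          exact Nat.pow_le_pow_right h.pp.hr.pos h1)
        exact mem_centralizer_iff.2 fun a ha =>
          (mem_Cz.1 (map_subtype_le _ (heq.symm ▸ ha : a ∈ R') : a ∈ Cz v)).eq
      · right
        by_cases hvZ : v ∈ center G
        · exact center_le_centralizer _ hvZ
        have hvm : (Cz v).index = m := by
          rcases h.pp.hyp.sizes v with e | e | e | e
          · exact absurd ((idx_eq_one_iff v).1 e) hvZ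
          · exact absurd e (h.noS v hv)
          · exact e
          · exact absurd e hc
        exact mem_centralizer_iff.2 fun w hw => (mem_Cz.1 (h.symm.pCore_le_Cz hv hvm hw)).eq
    rintro v ⟨k, hk⟩
    obtain ⟨S, hS⟩ := (IsPGroup.of_card (n := k) (by rw [Nat.card_zpowers, hk]) :
      IsPGroup s (zpowers v)).exists_le_sylow
    rcases le_or_le_of_forall (fun w hw => hcov' w (PEl.of_mem S.2 hw)) with h1 | h1
    · exfalso
      exact (exists_sylow_le_centralizer_iff s x).1 ⟨S, fun w hw =>
        mem_Cz.2 (mem_centralizer_iff.1 (h1 hw) x hxN).symm⟩ (hx ▸ h.pp.s_dvd_n)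
    · exact h1 (hS (mem_zpowers v))
  -- Frattini argument
  obtain ⟨S⟩ := (inferInstance : Nonempty (Sylow s G))
  set D := Subgroup.centralizer (M : Set G) with hD
  have hSD : (S : Subgroup G) ≤ D := fun v hv => hSM v (PEl.of_mem S.2 hv)
  have hND : N ≤ D := fun w hw => mem_centralizer_iff.2 fun v hv =>
    (mem_centralizer_iff.1 (hMN hv) w hw).symm
  have hDle : D ≤ normalizer ((S : Subgroup G) : Set G) ⊔ N := by
    have heq : N ⊔ ((S : Subgroup G) ⊔ center G) = D := by
      refine h.pp.eq_of_parts (sup_le hND (sup_le hSD (center_le_centralizer _)))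
        (le_trans le_sup_right le_sup_right) ?_ ?_
      · refine le_trans ?_ (fact_le_of_le (le_trans le_sup_left le_sup_right) s)
        rw [S.card_eq_multiplicity, Nat.Prime.factorization_pow h.pp.hs, Finsupp.single_eq_same]
        exact Nat.le.intro (fact_add _ s)
      · refine le_trans ?_ (fact_le_of_le le_sup_left q)
        obtain ⟨R⟩ := (inferInstance : Nonempty (Sylow q D))
        have hle : (R : Subgroup D).map D.subtype ≤ N := fun w hw =>
          hNel w (PEl.of_mem (R.2.map _) hw) (map_subtype_le _ hw)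
        have h1 := fact_le_of_le hle q
        rwa [← Nat.card_congr (equivMapOfInjective _ _ D.subtype_injective).toEquiv,
          R.card_eq_multiplicity, Nat.Prime.factorization_pow h.pp.hr, Finsupp.single_eq_same] at h1
    rw [← heq]
    exact sup_le le_sup_right (sup_le (le_trans le_normalizer le_sup_left)
      (le_trans (center_le_normalizer _) le_sup_left))
  have htop : N ⊔ normalizer ((S : Subgroup G) : Set G) = ⊤ := by
    rw [eq_top_iff, ← Sylow.normalizer_sup_eq_top' S hSD, sup_comm N]
    exact sup_le le_sup_left hDle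
  obtain ⟨Q⟩ := (inferInstance : Nonempty (Sylow q G))
  obtain ⟨u, huQ, huM⟩ : ∃ u ∈ (Q : Subgroup G), u ∉ D := by
    by_contra hno
    refine (exists_sylow_le_centralizer_iff q y).1 ⟨Q, fun v hv => ?_⟩ (hy ▸ h.pp.symm.s_dvd_n)
    have hvD : v ∈ D := by_contra fun hc => hno ⟨v, hv, hc⟩
    exact mem_Cz.2 (mem_centralizer_iff.1 hvD y hyM).symm
  have hdec : ∀ g : G, ∃ ν ∈ N, ∃ k ∈ normalizer ((S : Subgroup G) : Set G), ν * k = g := by
    intro g
    have hg : g ∈ N ⊔ normalizer ((S : Subgroup G) : Set G) := htop ▸ mem_top g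
    rw [← SetLike.mem_coe, Subgroup.normal_mul, Set.mem_mul] at hg
    exact hg
  obtain ⟨ν, hν, w, hwS, hνw⟩ := hdec u
  have hNQ : N ≤ (Q : Subgroup G) := CfsgLib.Solvable.pCore_le_sylow Q
  have hwQ : w ∈ (Q : Subgroup G) := by
    rw [show w = ν⁻¹ * u by rw [← hνw]; group]
    exact mul_mem (inv_mem (hNQ hν)) huQ
  have hwD : w ∉ D := fun hw => huM (hνw ▸ mul_mem (hND hν) hw)
  have hwN : w ∈ Subgroup.centralizer (N : Set G) := hQN Q hwQ
  have hwbQ : PEl q (w * x) := PEl.of_mem Q.2 (mul_mem hwQ (hNQ hxN))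
  have hwbZ : w * x ∉ center G := fun hz => hwD (by
    have h1 : w * x ∈ D := center_le_centralizer _ hz
    exact (Subgroup.mul_mem_cancel_right D (hND hxN)).1 h1)
  obtain ⟨R⟩ := (inferInstance : Nonempty (Sylow s (Cz (w * x))))
  set R' : Subgroup G := (R : Subgroup (Cz (w * x))).map (Cz (w * x)).subtype with hR'
  obtain ⟨S', hS'⟩ := (R.2.map _ : IsPGroup s R').exists_le_sylow
  obtain ⟨g, hg⟩ := MulAction.exists_smul_eq G S S'
  obtain ⟨ν', hν', k, hk, hνk⟩ := hdec g
  -- the Sylow subgroup of the centraliser centralises `w` and `x`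
  have hR'le : R' ≤ Cz w ⊓ Cz x := by
    intro v hv
    have hv' := hS' hv
    rw [← hg, Sylow.coe_subgroup_smul] at hv'
    obtain ⟨σ, hσ, hσv⟩ := hv'
    have hσv' : g * σ * g⁻¹ = v := hσv
    set v' := k * σ * k⁻¹ with hv'def
    have hv'S : v' ∈ (S : Subgroup G) := (mem_normalizer_iff.1 hk σ).1 hσ
    have hvv' : v = ν' * v' * ν'⁻¹ := by rw [← hσv', ← hνk, hv'def]; group
    have hcw : Commute ν' w := mem_centralizer_iff.1 hwN ν' hν'
    have hcx : Commute ν' x := hNab ν' hν' x hxN
    have hvwx : v * (w * x) = w * x * v := (mem_Cz.1 (map_subtype_le _ hv : v ∈ Cz (w * x))).eq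
    have hc1 : Commute v' (w * x) := by
      have e : v' = ν'⁻¹ * v * ν' := by rw [hvv']; group
      have hc := hcw.mul_right hcx
      rw [e]
      exact (hc.inv_left.mul_left (hvwx : Commute v (w * x))).mul_left hc
    set t := v' * w * v'⁻¹ * w⁻¹ with ht
    have htS : t ∈ (S : Subgroup G) := by
      rw [ht, show v' * w * v'⁻¹ * w⁻¹ = v' * (w * v'⁻¹ * w⁻¹) by group]
      exact mul_mem hv'S ((mem_normalizer_iff.1 hwS _).1 (inv_mem hv'S))
    have htN : t ∈ N := by
      have e : t = w * (x * (v' * x⁻¹ * v'⁻¹)) * w⁻¹ := by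
        rw [ht]
        calc v' * w * v'⁻¹ * w⁻¹ = v' * (w * x) * x⁻¹ * v'⁻¹ * w⁻¹ := by group
          _ = w * x * v' * x⁻¹ * v'⁻¹ * w⁻¹ := by rw [hc1.eq]
          _ = w * (x * (v' * x⁻¹ * v'⁻¹)) * w⁻¹ := by group
      rw [e]
      exact (inferInstance : N.Normal).conj_mem _
        (mul_mem hxN ((inferInstance : N.Normal).conj_mem _ (inv_mem hxN) v')) w
    have ht1 : t = 1 := by
      have hd : Disjoint N (S : Subgroup G) :=
        IsPGroup.disjoint_of_ne q s h.pp.ne.symm _ _ (CfsgLib.Solvable.pCore_isPGroup q G) S.2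
      exact Subgroup.disjoint_def.1 hd htN htS
    have hvw : Commute v' w := by
      rw [ht, mul_inv_eq_one, mul_inv_eq_iff_eq_mul] at ht1
      exact ht1
    have hvx : Commute v' x := by
      have h1 := hvw.inv_right.mul_right hc1
      rwa [inv_mul_cancel_left] at h1
    refine ⟨mem_Cz.2 ?_, mem_Cz.2 ?_⟩ <;> rw [hvv']
    · exact (hcw.mul_left hvw).mul_left hcw.inv_left
    · exact (hcx.mul_left hvx).mul_left hcx.inv_left
  have hR'M : M ≤ R' := by
    obtain ⟨P, hP⟩ := ((R.2.map _ : IsPGroup s R').comap_subtype (K := Cz x)).exists_le_sylow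
    have hR'x : R' ≤ Cz x := hR'le.trans inf_le_right
    have heq : R'.subgroupOf (Cz x) = P := eq_of_le_of_card_ge hP (by
      rw [Nat.card_congr (subgroupOfEquivOfLe hR'x).toEquiv, P.card_eq_multiplicity, hR',
        ← Nat.card_congr (equivMapOfInjective _ _ (Cz (w * x)).subtype_injective).toEquiv,
        R.card_eq_multiplicity, h.fact_cent (h.n_dvd hwbQ hwbZ) (dvd_of_eq hx.symm)])
    intro v hv
    haveI : (M.subgroupOf (Cz x)).Normal := inferInstance
    have hle : M.subgroupOf (Cz x) ≤ (P : Subgroup (Cz x)) :=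
      le_trans (CfsgLib.Solvable.le_pCore inferInstance
        (CfsgLib.Solvable.pCore_isPGroup s G).comap_subtype) (CfsgLib.Solvable.pCore_le_sylow P)
    exact mem_subgroupOf.1 (heq.symm ▸ hle (mem_subgroupOf.2 hv : (⟨v, hMx hv⟩ : Cz x) ∈ _))
  exact hwD (mem_centralizer_iff.2 fun v hv =>
    (mem_Cz.1 ((hR'M.trans hR'le) hv).1).eq)

theorem false : False := by
  haveI := Fact.mk h.pp.hs
  haveI := Fact.mk h.pp.hr
  -- solvability
  have hsolv : Group.IsSolvable G := by
    haveI : Group.IsSolvable (center G) :=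
      Group.isSolvable_of_comm fun a b => Subtype.ext (mem_center_iff.1 b.2 a)
    haveI : Group.IsSolvable (G ⧸ center G) := by
      refine CfsgLib.Char.isSolvable_of_two_primes s q h.pp.hs h.pp.hr _ _ rfl fun t ht htd => ?_
      by_contra hne
      push Not at hne
      haveI := Fact.mk ht
      obtain ⟨T⟩ := (inferInstance : Nonempty (Sylow t G))
      exact T.not_dvd_index (htd.trans (Subgroup.index_dvd_of_le
        (h.pp.sylow_other_le_center hne.1 hne.2 T)))
    exact Group.isSolvable_of_ker_le_range (center G).subtype (QuotientGroup.mk' (center G))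
      (by simp)
  haveI := hsolv
  by_cases hN : Cfsg.pCore q G ≤ center G
  · by_cases hM : Cfsg.pCore s G ≤ center G
    · have hF : Cfsg.fittingSubgroup G ≤ center G := by
        rw [CfsgLib.Solvable.fittingSubgroup_eq_iSup_pCore]
        refine iSup_le fun t => ?_
        haveI : Fact (t : ℕ).Prime := ⟨Nat.prime_of_mem_primeFactors t.2⟩
        by_cases hts : (t : ℕ) = s
        · rw [hts]; exact hM
        by_cases htq : (t : ℕ) = q
        · rw [htq]; exact hN
        obtain ⟨T⟩ := (inferInstance : Nonempty (Sylow (t : ℕ) G))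
        exact le_trans (CfsgLib.Solvable.pCore_le_sylow T) (h.pp.sylow_other_le_center hts htq T)
      obtain ⟨x, hx⟩ := h.pp.hyp.exn
      refine h.pp.hyp.not_mem_center_n hx ?_
      refine hF (CfsgLib.Solvable.centralizer_fittingSubgroup_le ?_)
      exact mem_centralizer_iff.2 fun v hv => (mem_center_iff.1 (hF hv) x).symm
    · exact h.symm.false_of_pCore hM
  · exact h.false_of_pCore hN

end NN

theorem Hyp.nilpotent {n m : ℕ} (h : Hyp G n m) :
    Group.IsNilpotent G ∧ IsPrimePow n ∧ IsPrimePow m := by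
  have hm := h.isPrimePow_m
  have hn := h.symm.isPrimePow_m
  refine ⟨?_, hn, hm⟩
  obtain ⟨s, a, hs, -, rfl⟩ := (isPrimePow_nat_iff n).1 hn
  obtain ⟨r, b, hr, -, rfl⟩ := (isPrimePow_nat_iff m).1 hm
  have hpp : PP G (s ^ a) (r ^ b) s r := ⟨h, hs, hr, ⟨a, rfl⟩, ⟨b, rfl⟩⟩
  haveI := Fact.mk hs
  haveI := Fact.mk hr
  obtain ⟨x, hxs, hx⟩ : ∃ x : G, PEl s x ∧ (Cz x).index = s ^ a := by
    by_contra hno
    by_cases hu : ∃ u : G, PEl r u ∧ (Cz u).index = r ^ b
    · obtain ⟨u, hur, hu⟩ := hu
      exact hno (hpp.symm.exists_pel_m hur hu)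
    · exact NN.false ⟨hpp, fun x hx e => hno ⟨x, hx, e⟩, fun u hu' e => hu ⟨u, hu', e⟩⟩
  obtain ⟨y, hyr, hy⟩ := hpp.exists_pel_m hxs hx
  obtain ⟨S⟩ := (inferInstance : Nonempty (Sylow s G))
  obtain ⟨R⟩ := (inferInstance : Nonempty (Sylow r G))
  have hS : (S : Subgroup G).Normal := ⟨fun v hv g =>
    hpp.symm.mem_sylow_of_pel hyr hy S rfl ((PEl.of_mem S.2 hv).conj g)⟩
  have hR : (R : Subgroup G).Normal := ⟨fun v hv g =>
    hpp.mem_sylow_of_pel hxs hx R rfl ((PEl.of_mem R.2 hv).conj g)⟩
  refine ((Group.isNilpotent_of_finite_tfae (G := G)).out 0 3 : _ ↔ _).2 ?_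
  intro p hp P
  rcases eq_or_ne p s with rfl | hps
  · haveI := hS
    haveI := Sylow.unique_of_normal S hS
    rw [Subsingleton.elim P S]
    exact hS
  rcases eq_or_ne p r with rfl | hpr
  · haveI := hR
    haveI := Sylow.unique_of_normal R hR
    rw [Subsingleton.elim P R]
    exact hR
  exact ⟨fun v hv g => by
    rw [mem_center_iff.1 (hpp.sylow_other_le_center hps hpr P hv) g, mul_inv_cancel_right]
    exact hv⟩

end CfsgLib.ClassSize.FourSizes
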