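import Cfsg.Agent.Lib.ClassSize.FourSizes.Split
import Cfsg.Agent.Lib.Solvable.CoprimeAbelian
import Cfsg.Agent.Lib.PLocal.HallHigman
import Cfsg.Agent.Lib.Char.Burnside

/-!
# Class sizes `1, s^a, q^b, s^a q^b`: some primary element has class size a power of its prime
-/

set_option autoImplicit false
set_option linter.style.haveILetI false
set_option linter.unusedSectionVars false

open scoped Pointwise commutatorElement

namespace CfsgLib.ClassSize.FourSizes

open Subgroup CfsgLib.ClassSize.Three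

variable {G : Type*} [Group G] [Finite G]

/-- The configuration to be excluded. -/
structure NN (G : Type*) [Group G] (n m s q : ℕ) : Prop where
  pp : PP G n m s q
  noS : ∀ x : G, PEl s x → (Cz x).index ≠ n
  noQ : ∀ u : G, PEl q u → (Cz u).index ≠ m

/-- The part of a subgroup `V` of `pCore q G` used below: the centre of `pCore q G`. -/
def coreCenter (q : ℕ) (G : Type*) [Group G] : Subgroup G :=
  Cfsg.pCore q G ⊓ Subgroup.centralizer (Cfsg.pCore q G : Set G)

namespace NN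

variable {n m s q : ℕ} (h : NN G n m s q)

include h

theorem symm : NN G m n q s := ⟨h.pp.symm, h.noQ, h.noS⟩

theorem n_dvd {u : G} (hu : PEl q u) (huZ : u ∉ center G) : n ∣ (Cz u).index := by
  rcases h.pp.hyp.sizes u with e | e | e | e
  · exact absurd ((idx_eq_one_iff u).1 e) huZ
  · exact dvd_of_eq e.symm
  · exact absurd e (h.noQ u hu)
  · exact e ▸ dvd_mul_right n m

/-- The `s`-part of the centraliser is the same for all centralisers of index `n` or `n * m`. -/
theorem fact_cent {u x : G} (hu : n ∣ (Cz u).index) (hx : n ∣ (Cz x).index) :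
    (Nat.card (Cz u)).factorization s = (Nat.card (Cz x)).factorization s := by
  have hn0 : n ≠ 0 := by have := h.pp.hyp.hn; omega
  have hm0 : m ≠ 0 := by have := h.pp.hyp.hm; omega
  have hsm : m.factorization s = 0 := Nat.factorization_eq_zero_of_not_dvd fun hd =>
    h.pp.hyp.not_dvd_of_dvd_m h.pp.hs hd h.pp.s_dvd_n
  have key : ∀ g : G, n ∣ (Cz g).index →
      (Cz g).index.factorization s = n.factorization s := by
    intro g hg
    rcases h.pp.hyp.sizes g with e | e | e | e <;> rw [e] at hg ⊢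
    · have := h.pp.hyp.hn; rw [Nat.dvd_one] at hg; omega
    · exact absurd hg h.pp.hyp.not_dvd_m
    · rw [Nat.factorization_mul hn0 hm0, Finsupp.add_apply, hsm, add_zero]
  have h1 := fact_add (Cz u) s
  have h2 := fact_add (Cz x) s
  have h3 := key u hu
  have h4 := key x hx
  omega

theorem exists_n : ∃ x : G, PEl q x ∧ (Cz x).index = n := by
  obtain ⟨t, x, ht, hxt, hx⟩ := h.pp.hyp.exists_primary_n
  refine ⟨x, ?_, hx⟩
  by_cases hts : t = s
  · exact absurd hx (h.noS x (hts ▸ hxt))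
  by_cases htq : t = q
  · exact htq ▸ hxt
  · exact absurd (h.pp.pel_other_mem_center ht hts htq hxt) (h.pp.hyp.not_mem_center_n hx)

theorem sylow_centralizer [Fact s.Prime] {x : G} (hxq : PEl q x) (hx : (Cz x).index = n)
    (P : Sylow s (Cz x)) : IsMulCommutative (P : Subgroup (Cz x)) ∧
      (Cfsg.pCore q (Cz x) ⊔ (P : Subgroup (Cz x))).Normal := by
  haveI := Fact.mk h.pp.hr
  obtain ⟨b, hb⟩ := h.pp.hm
  have hidx : ∀ v : Cz x, (Subgroup.centralizer ({v} : Set (Cz x))).index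
      = (Cz (v : G)).relIndex (Cz x) := fun v => by
    rw [Subgroup.relIndex]
    congr 1
    ext w
    simp [mem_subgroupOf, Subgroup.mem_centralizer_singleton_iff, Subtype.ext_iff]
  have hcl : ∀ v : Cz x, (∃ k, orderOf v = s ^ k) →
      ∃ i, (Subgroup.centralizer ({v} : Set (Cz x))).index = q ^ i := by
    intro v hv
    have hv' : PEl s (v : G) := by obtain ⟨k, hk⟩ := hv; exact ⟨k, by rw [Subgroup.orderOf_coe, hk]⟩
    rw [hidx]
    rcases h.pp.hyp.inner_sizes hx (mem_Cz.1 v.2).symm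
      (hxq.coprime h.pp.hr h.pp.hs h.pp.ne.symm hv') with e | e
    · exact ⟨0, by rw [e, pow_zero]⟩
    · exact ⟨b, by rw [e, hb]⟩
  have hdvd : s ∣ Nat.card (Cz x) := by
    obtain ⟨z, hz, ⟨k, hk⟩, hzZ⟩ := h.pp.hyp.exists_noncentral_pel hx h.pp.hs h.pp.s_dvd_n
    have hk0 : k ≠ 0 := fun e => hzZ (by
      rw [e, pow_zero, orderOf_eq_one_iff] at hk; rw [hk]; exact one_mem _)
    exact ((dvd_pow_self s hk0).trans (dvd_of_eq hk.symm)).trans (Subgroup.orderOf_dvd_natCard _ hz)
  obtain ⟨-, p, hp, hall, -, hne⟩ := Cfsg.Agent.S4125.result s hdvd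
    (fun v hv => by obtain ⟨i, hi⟩ := hcl v hv; exact ⟨q, i, h.pp.hr, hi⟩) P
  rcases eq_or_ne p q with rfl | hpq
  · exact ⟨(hne h.pp.ne.symm).1, (hne h.pp.ne.symm).2.1⟩
  have hcen : (P : Subgroup (Cz x)) ≤ center (Cz x) := by
    intro v hv
    obtain ⟨k, hk⟩ := PEl.of_mem P.2 hv
    obtain ⟨i, hi⟩ := hall v ⟨k, hk⟩
    obtain ⟨j, hj⟩ := hcl v ⟨k, hk⟩
    have hone : (Subgroup.centralizer ({v} : Set (Cz x))).index = 1 :=
      Nat.eq_one_of_dvd_coprimes (((Nat.coprime_primes hp h.pp.hr).2 hpq).pow i j)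
        (dvd_of_eq hi) (dvd_of_eq hj)
    exact mem_center_iff.2 fun w =>
      mem_centralizer_singleton_iff.1 ((Subgroup.index_eq_one.1 hone).symm ▸ mem_top w)
  haveI : (P : Subgroup (Cz x)).Normal := ⟨fun v hv w => by
    rw [mem_center_iff.1 (hcen hv) w, mul_inv_cancel_right]; exact hv⟩
  haveI := CfsgLib.Solvable.pCore_normal q (Cz x)
  exact ⟨⟨⟨fun a b => Subtype.ext (mem_center_iff.1 (hcen b.2) a)⟩⟩, inferInstance⟩

theorem commute_of_isPGroup {x : G} (hxq : PEl q x) (hx : (Cz x).index = n) {T : Subgroup G}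
    (hT : T ≤ Cz x) (hTs : IsPGroup s T) {a b : G} (ha : a ∈ T) (hb : b ∈ T) : Commute a b := by
  haveI := Fact.mk h.pp.hs
  obtain ⟨P, hP⟩ := (hTs.comap_subtype (K := Cz x)).exists_le_sylow
  obtain ⟨hab, -⟩ := h.sylow_centralizer hxq hx P
  have ha' : (⟨a, hT ha⟩ : Cz x) ∈ (P : Subgroup (Cz x)) := hP (mem_subgroupOf.2 ha)
  have hb' : (⟨b, hT hb⟩ : Cz x) ∈ (P : Subgroup (Cz x)) := hP (mem_subgroupOf.2 hb)
  exact congrArg Subtype.val (setLike_mul_comm ha' hb')

/-- In the centraliser of a `q`-element with class size `n * m` all other primary elements are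
central. -/
theorem le_of_nm {u : G} (hu : PEl q u) (hidx : (Cz u).index = n * m) {t : ℕ} (ht : t.Prime)
    (htq : t ≠ q) {z : G} (hz : z ∈ Cz u) (hzt : PEl t z) : Cz u ≤ Cz z := by
  have hc : Commute u z := (mem_Cz.1 hz).symm
  have hco := hu.coprime h.pp.hr ht htq.symm hzt
  obtain ⟨h1, -⟩ := idx_dvd_mul hc hco
  rw [hidx] at h1
  have h2 := h.pp.hyp.eq_nm ((dvd_mul_right n m).trans h1) ((dvd_mul_left m n).trans h1)
  have e := Cz_mul_eq hc hco
  have he : Cz u ⊓ Cz z = Cz u := eq_of_le_of_card_ge inf_le_left (by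
    have e1 := (Cz u ⊓ Cz z).card_mul_index
    rw [← (Cz u).card_mul_index, ← e, h2, hidx] at e1
    rw [← e]
    exact le_of_eq (Nat.eq_of_mul_eq_mul_right
      (Nat.mul_pos (by have := h.pp.hyp.hn; omega) (by have := h.pp.hyp.hm; omega)) e1).symm)
  exact he ▸ inf_le_right

theorem comm_of_nm {u : G} (hu : PEl q u) (hidx : (Cz u).index = n * m) {a b : G}
    (ha : a ∈ Cz u) (hb : b ∈ Cz u) : Commute a b := by
  haveI := Fact.mk h.pp.hs
  haveI := Fact.mk h.pp.hr
  obtain ⟨x, hxq, hx⟩ := h.exists_n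
  have huZ : u ∉ center G := h.pp.hyp.not_mem_center (by
    rw [hidx]; intro e; rw [mul_eq_one] at e; have := h.pp.hyp.hn; omega)
  obtain ⟨z, hz, hzs, hzZ⟩ : ∃ z ∈ Cz u, PEl s z ∧ z ∉ center G := by
    by_contra hno
    obtain ⟨z', hz', hz's, hz'Z⟩ := h.pp.hyp.exists_noncentral_pel hx h.pp.hs h.pp.s_dvd_n
    refine hz'Z (pel_mem_center (center_le_Cz x) ?_ hz' hz's)
    rw [← h.fact_cent (h.n_dvd hu huZ) (dvd_of_eq hx.symm)]
    exact fact_le_center fun w hw hws => by_contra fun hwZ => hno ⟨w, hw, hws, hwZ⟩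
  have huz : Cz u ≤ Cz z := h.le_of_nm hu hidx h.pp.hs h.pp.ne hz hzs
  obtain ⟨P⟩ := (inferInstance : Nonempty (Sylow q (Cz u)))
  set T : Subgroup G := (P : Subgroup (Cz u)).map (Cz u).subtype with hTdef
  have hTz : T ≤ Cz z := le_trans (map_subtype_le _) huz
  have hTq : IsPGroup q T := P.2.map _
  have hTab : ∀ {c d : G}, c ∈ T → d ∈ T → Commute c d := by
    intro c d hc hd
    by_cases hzm : (Cz z).index = n * m
    · exact (mem_Cz.1 (h.symm.le_of_nm hzs (by rw [hzm, mul_comm]) h.pp.hr h.pp.ne.symm (hTz hd)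
        (PEl.of_mem hTq hd) (hTz hc)))
    · have hm' : (Cz z).index = m := by
        rcases h.pp.hyp.sizes z with e | e | e | e
        · exact absurd ((idx_eq_one_iff z).1 e) hzZ
        · exact absurd e (h.noS z hzs)
        · exact e
        · exact absurd e hzm
      exact h.symm.commute_of_isPGroup hzs hm' hTz hTq hc hd
  have htop : (P : Subgroup (Cz u)) ⊔ center (Cz u) = ⊤ := by
    rw [← Subgroup.index_eq_one]
    by_contra hne
    obtain ⟨t, ht, htd⟩ := Nat.exists_prime_and_dvd hne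
    haveI := Fact.mk ht
    by_cases htq : t = q
    · subst htq
      exact P.not_dvd_index (htd.trans (index_dvd_of_le le_sup_left))
    · obtain ⟨P'⟩ := (inferInstance : Nonempty (Sylow t (Cz u)))
      refine P'.not_dvd_index (htd.trans (index_dvd_of_le fun w hw => mem_sup_right ?_))
      obtain ⟨k, hk⟩ := PEl.of_mem P'.2 hw
      have hwt : PEl t (w : G) := ⟨k, by rw [Subgroup.orderOf_coe, hk]⟩
      exact mem_center_iff.2 fun g =>
        Subtype.ext (mem_Cz.1 (h.le_of_nm hu hidx ht htq w.2 hwt g.2)).eq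
  have hPZ : (P : Subgroup (Cz u)) ≤ center (Cz u) := by
    intro w hw
    have h1 : ⊤ ≤ Subgroup.centralizer ({w} : Set (Cz u)) := by
      rw [← htop]
      refine sup_le (fun v hv => mem_centralizer_singleton_iff.2 (Subtype.ext ?_)) fun v hv =>
        mem_centralizer_singleton_iff.2 (mem_center_iff.1 hv w).symm
      exact (hTab ⟨v, hv, rfl⟩ ⟨w, hw, rfl⟩).eq
    exact mem_center_iff.2 fun g => mem_centralizer_singleton_iff.1 (h1 (mem_top g))
  have hall : (⟨a, ha⟩ : Cz u) ∈ center (Cz u) := by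
    have := htop ▸ mem_top (⟨a, ha⟩ : Cz u)
    exact (sup_le hPZ le_rfl) this
  exact (congrArg Subtype.val (mem_center_iff.1 hall ⟨b, hb⟩)).symm

theorem pCore_le_Cz {x : G} (hxq : PEl q x) (hx : (Cz x).index = n) :
    Cfsg.pCore q G ≤ Cz x := by
  haveI := Fact.mk h.pp.hr
  obtain ⟨Q, hQ⟩ := (exists_sylow_le_centralizer_iff q x).2
    (hx ▸ h.pp.hyp.not_dvd_of_dvd_m h.pp.hr h.pp.symm.s_dvd_n)
  exact le_trans (CfsgLib.Solvable.pCore_le_sylow Q) hQ

theorem exists_n_mem (hN : ¬ Cfsg.pCore q G ≤ center G) :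
    ∃ x ∈ Cfsg.pCore q G, PEl q x ∧ (Cz x).index = n := by
  haveI := Fact.mk h.pp.hr
  set N := Cfsg.pCore q G with hNdef
  have hpel : ∀ {u : G}, u ∈ N → PEl q u := fun {u} hu =>
    PEl.of_mem (CfsgLib.Solvable.pCore_isPGroup q G) hu
  by_cases hnm : ∃ u ∈ N, (Cz u).index = n * m
  · obtain ⟨u, hu, hum⟩ := hnm
    set E : Set G := {x | PEl q x ∧ (Cz x).index = n} with hE
    have hEu : closure E ≤ Cz u := (closure_le _).2 fun x hx =>
      Cz_le_iff_mem.1 (h.pCore_le_Cz hx.1 hx.2 hu)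
    have hn : (closure E).Normal := by
      haveI hnc : (normalClosure E).Normal := normalClosure_normal
      suffices closure E = normalClosure E by rw [this]; exact hnc
      refine le_antisymm closure_le_normalClosure ((closure_le _).2 ?_)
      intro y hy
      obtain ⟨x, hx, hxy⟩ := Group.mem_conjugatesOfSet_iff.1 hy
      obtain ⟨c, rfl⟩ := isConj_iff.1 hxy
      exact subset_closure ⟨hx.1.conj c, by rw [idx_conj, hx.2]⟩
    have hq' : IsPGroup q (closure E) := by
      refine IsPGroup.iff_orderOf.2 fun g => ?_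
      obtain ⟨g, hg⟩ := g
      rw [Subgroup.orderOf_mk]
      suffices ∃ k, g ^ q ^ k = 1 by
        obtain ⟨k, hk⟩ := this
        obtain ⟨i, -, hi⟩ := (Nat.dvd_prime_pow h.pp.hr).1 (orderOf_dvd_of_pow_eq_one hk)
        exact ⟨i, hi⟩
      induction hg using closure_induction with
      | mem x hx => obtain ⟨k, hk⟩ := hx.1; exact ⟨k, hk ▸ pow_orderOf_eq_one x⟩
      | one => exact ⟨0, one_pow _⟩
      | mul c d hc hd ihc ihd =>
        obtain ⟨i, hi⟩ := ihc
        obtain ⟨j, hj⟩ := ihd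
        refine ⟨i + j, ?_⟩
        rw [(h.comm_of_nm (hpel hu) hum (hEu hc) (hEu hd)).mul_pow]
        nth_rw 1 [pow_add, pow_mul, hi, one_pow, one_mul]
        rw [add_comm, pow_add, pow_mul, hj, one_pow]
      | inv c hc ihc =>
        obtain ⟨i, hi⟩ := ihc
        exact ⟨i, by rw [inv_pow, hi, inv_one]⟩
    obtain ⟨x, hxq, hx⟩ := h.exists_n
    exact ⟨x, CfsgLib.Solvable.le_pCore hn hq' (subset_closure ⟨hxq, hx⟩), hxq, hx⟩
  · obtain ⟨u, hu, huZ⟩ := SetLike.not_le_iff_exists.1 hN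
    refine ⟨u, hu, hpel hu, ?_⟩
    rcases h.pp.hyp.sizes u with e | e | e | e
    · exact absurd ((idx_eq_one_iff u).1 e) huZ
    · exact e
    · exact absurd e (h.noQ u (hpel hu))
    · exact absurd ⟨u, hu, e⟩ hnm

/-- An element with class size `m` commutes with a given `q`-element of class size `n`. -/
theorem exists_m_commute [Fact s.Prime] {x : G} (hxq : PEl q x) (hx : (Cz x).index = n) :
    ∃ (y : G) (S : Sylow s G), PEl s y ∧ (Cz y).index = m ∧ (S : Subgroup G) ≤ Cz y ∧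
      Commute x y := by
  have hsm : ¬ s ∣ m := fun hd => h.pp.hyp.not_dvd_of_dvd_m h.pp.hs hd h.pp.s_dvd_n
  obtain ⟨z, hz, hzs, hzZ⟩ := h.pp.hyp.exists_noncentral_pel hx h.pp.hs h.pp.s_dvd_n
  by_cases hzm : (Cz z).index = m
  · obtain ⟨S, hS⟩ := (exists_sylow_le_centralizer_iff s z).2 (hzm ▸ hsm)
    exact ⟨z, S, hzs, hzm, hS, (mem_Cz.1 hz).symm⟩
  have hznm : (Cz z).index = n * m := by
    rcases h.pp.hyp.sizes z with e | e | e | e
    · exact absurd ((idx_eq_one_iff z).1 e) hzZ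
    · exact absurd e (h.noS z hzs)
    · exact absurd e hzm
    · exact e
  obtain ⟨y₀, hy₀s, hy₀⟩ := h.symm.exists_n
  obtain ⟨S₀, hS₀⟩ := (exists_sylow_le_centralizer_iff s y₀).2 (hy₀ ▸ hsm)
  obtain ⟨k, hk⟩ := id hzs
  obtain ⟨S, hS⟩ := (IsPGroup.of_card (n := k) (by rw [Nat.card_zpowers, hk]) :
    IsPGroup s (zpowers z)).exists_le_sylow
  obtain ⟨g, hg⟩ := MulAction.exists_smul_eq G S₀ S
  have hSy : (S : Subgroup G) ≤ Cz (g * y₀ * g⁻¹) := by
    rw [← hg, Sylow.coe_subgroup_smul]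
    rintro _ ⟨v, hv, rfl⟩
    exact conj_mem_Cz_iff.2 (hS₀ hv)
  refine ⟨g * y₀ * g⁻¹, S, hy₀s.conj g, by rw [idx_conj, hy₀], hSy, ?_⟩
  exact h.symm.comm_of_nm hzs (by rw [hznm, mul_comm]) (Cz_le_iff_mem.1 hz)
    (Cz_le_iff_mem.1 (hSy (hS (mem_zpowers z))))

/-- The conjugates of `x` all commute with `y`. -/
theorem conj_commute [Fact s.Prime] {x y : G} (hx : (Cz x).index = n) (S : Sylow s G)
    (hSy : (S : Subgroup G) ≤ Cz y) (hxy : Commute x y) (g : G) :
    Commute (g * x * g⁻¹) y := by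
  obtain ⟨σ, hσ⟩ : ∃ σ : (S : Subgroup G), σ • ((1 : G) : G ⧸ Cz x) = (g : G ⧸ Cz x) := by
    have hn0 : n ≠ 0 := by have := h.pp.hyp.hn; omega
    have horb : MulAction.orbit (S : Subgroup G) ((1 : G) : G ⧸ Cz x) = Set.univ := by
      refine Set.eq_of_subset_of_ncard_le (Set.subset_univ _) ?_ (Set.toFinite _)
      rw [← MulAction.index_stabilizer, Set.ncard_univ, ← Subgroup.index_eq_card]
      have hst : MulAction.stabilizer (S : Subgroup G) ((1 : G) : G ⧸ Cz x)
          = (Cz x).subgroupOf (S : Subgroup G) := by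
        ext w
        rw [MulAction.mem_stabilizer_iff, mem_subgroupOf]
        change ((w * 1 : G) : G ⧸ Cz x) = _ ↔ _
        rw [QuotientGroup.eq]
        simp
      rw [hst]
      obtain ⟨a, ha⟩ := h.pp.hn
      obtain ⟨j, hj⟩ := IsPGroup.iff_card.1 (S.2.to_subgroup ((Cz x).subgroupOf (S : Subgroup G)))
      have h1 := ((Cz x).subgroupOf (S : Subgroup G)).card_mul_index
      rw [hj, S.card_eq_multiplicity] at h1
      have hje : j ≤ (Nat.card (Cz x)).factorization s := by
        have hle : ((Cz x).subgroupOf (S : Subgroup G)).map (S : Subgroup G).subtype ≤ Cz x := by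
          rintro _ ⟨w, hw, rfl⟩; exact mem_subgroupOf.1 hw
        have h2 := fact_le_of_le hle s
        rwa [← Nat.card_congr (equivMapOfInjective _ _ (S : Subgroup G).subtype_injective).toEquiv,
          hj, Nat.Prime.factorization_pow h.pp.hs, Finsupp.single_eq_same] at h2
      have h3 := fact_add (Cz x) s
      rw [hx, ha, Nat.Prime.factorization_pow h.pp.hs, Finsupp.single_eq_same] at h3
      rw [hx, ha]
      refine Nat.le_of_mul_le_mul_left ?_ (pow_pos h.pp.hs.pos j)
      rw [h1, ← pow_add]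
      exact Nat.pow_le_pow_right h.pp.hs.pos (by omega)
    exact MulAction.mem_orbit_iff.1 (horb ▸ Set.mem_univ _)
  have hmem : g⁻¹ * (σ : G) ∈ Cz x := by
    change ((((σ : G) * 1 : G)) : G ⧸ Cz x) = _ at hσ
    rw [QuotientGroup.eq, mul_one] at hσ
    simpa using inv_mem hσ
  have h1 : g * x * g⁻¹ = (σ : G) * x * (σ : G)⁻¹ := by
    have hc := (mem_Cz.1 hmem).eq
    calc g * x * g⁻¹ = g * (x * (g⁻¹ * σ)) * (σ : G)⁻¹ := by group
      _ = (σ : G) * x * (σ : G)⁻¹ := by rw [← hc]; group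
  have hσy : Commute (σ : G) y := mem_Cz.1 (hSy σ.2)
  rw [h1]
  exact (hσy.mul_left hxy).mul_left hσy.inv_left

/-- A normal subgroup generated by `s`-elements inside the centraliser of `x` lies in
`pCore q G` times a given Sylow `s`-subgroup of that centraliser. -/
theorem le_sup_of_gen [Fact s.Prime] {x : G} (hxq : PEl q x) (hx : (Cz x).index = n)
    (L : Subgroup G) [L.Normal] (hLx : L ≤ Cz x) {E : Set G} (hE : ∀ v ∈ E, PEl s v)
    (hL : L = closure E) (P : Sylow s (Cz x)) :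
    L ≤ Cfsg.pCore q G ⊔ ((P : Subgroup (Cz x)).map (Cz x).subtype ⊓ L) := by
  haveI := Fact.mk h.pp.hr
  set O := Cfsg.pCore q (Cz x) with hO
  haveI hOn : O.Normal := CfsgLib.Solvable.pCore_normal q (Cz x)
  obtain ⟨-, hW⟩ := h.sylow_centralizer hxq hx P
  haveI := hW
  set L' := L.subgroupOf (Cz x) with hL'
  haveI : L'.Normal := inferInstance
  have hLW : L' ≤ O ⊔ (P : Subgroup (Cz x)) := by
    intro v hv
    suffices hle : L ≤ (O ⊔ (P : Subgroup (Cz x))).map (Cz x).subtype by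
      obtain ⟨w, hw, hwe⟩ := hle (mem_subgroupOf.1 hv)
      rwa [(Cz x).subtype_injective hwe] at hw
    rw [hL, closure_le]
    intro w hw
    have hwC : w ∈ (Cz x) := hLx (hL ▸ subset_closure hw)
    refine ⟨⟨w, hwC⟩, ?_, rfl⟩
    obtain ⟨k, hk⟩ := hE w hw
    obtain ⟨P', hP'⟩ := (IsPGroup.of_card (n := k) (by
      rw [Nat.card_zpowers, Subgroup.orderOf_mk, hk]) :
      IsPGroup s (zpowers (⟨w, hwC⟩ : (Cz x)))).exists_le_sylow
    obtain ⟨c, hc⟩ := MulAction.exists_smul_eq (Cz x) P P'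
    have hmem := hP' (mem_zpowers (⟨w, hwC⟩ : (Cz x)))
    rw [← hc, Sylow.coe_subgroup_smul] at hmem
    obtain ⟨p₀, hp₀, hpe⟩ := hmem
    rw [← hpe]
    exact hW.conj_mem _ (mem_sup_right hp₀) c
  -- the two parts
  have hO' : (O ⊓ L').map (Cz x).subtype ≤ Cfsg.pCore q G := by
    haveI hnorm : (((O ⊓ L').map (Cz x).subtype).subgroupOf L).Normal := by
      refine ⟨fun v hv w => ?_⟩
      obtain ⟨o, ho, hoe⟩ := mem_subgroupOf.1 hv
      refine mem_subgroupOf.2 ⟨⟨w, hLx w.2⟩ * o * ⟨w, hLx w.2⟩⁻¹,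
        (inferInstance : (O ⊓ L').Normal).conj_mem o ho _, ?_⟩
      simp [← hoe]
    have hle : (O ⊓ L').map (Cz x).subtype ≤ L := by
      rintro _ ⟨o, ho, rfl⟩; exact mem_subgroupOf.1 ho.2
    have hp : IsPGroup q (((O ⊓ L').map (Cz x).subtype).subgroupOf L) :=
      (((CfsgLib.Solvable.pCore_isPGroup q (Cz x)).to_le inf_le_left).map _).comap_subtype
    have h1 := map_mono (f := L.subtype) (CfsgLib.Solvable.le_pCore hnorm hp)
    rw [subgroupOf_map_subtype, inf_eq_left.2 hle] at h1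
    exact le_trans h1 (CfsgLib.Solvable.map_subtype_pCore_le L)
  have hPL : Nat.card ((P : Subgroup (Cz x)) ⊓ L' : Subgroup (Cz x)) = s ^ (Nat.card L').factorization s := by
    obtain ⟨i, hi⟩ := IsPGroup.iff_card.1 (P.2.to_le inf_le_left :
      IsPGroup s ((P : Subgroup (Cz x)) ⊓ L' : Subgroup (Cz x)))
    rw [hi]
    refine congrArg (s ^ ·) (le_antisymm ?_ ?_)
    · have h1 := fact_le_of_le (inf_le_right : (P : Subgroup (Cz x)) ⊓ L' ≤ L') s
      rwa [hi, Nat.Prime.factorization_pow h.pp.hs, Finsupp.single_eq_same] at h1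
    · obtain ⟨T⟩ := (inferInstance : Nonempty (Sylow s L'))
      set T' := (T : Subgroup L').map L'.subtype with hT'
      obtain ⟨P', hP'⟩ := (T.2.map L'.subtype : IsPGroup s T').exists_le_sylow
      obtain ⟨c, hc⟩ := MulAction.exists_smul_eq (Cz x) P' P
      have hle : T'.map (MulAut.conj c).toMonoidHom ≤ (P : Subgroup (Cz x)) ⊓ L' := by
        rintro _ ⟨t, ht, rfl⟩
        refine ⟨?_, (inferInstance : L'.Normal).conj_mem t (map_subtype_le _ ht) c⟩
        rw [← hc, Sylow.coe_subgroup_smul]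
        exact ⟨t, hP' ht, rfl⟩
      have h1 := card_dvd_of_le hle
      rw [← Nat.card_congr (equivMapOfInjective _ _ (MulAut.conj c).injective).toEquiv, hT',
        ← Nat.card_congr (equivMapOfInjective _ _ L'.subtype_injective).toEquiv,
        T.card_eq_multiplicity, hi] at h1
      exact (Nat.pow_dvd_pow_iff_le_right h.pp.hs.one_lt).1 h1
  have hrel : O.relIndex L' ∣ Nat.card (P : Subgroup (Cz x)) := by
    refine dvd_trans (CfsgLib.PLoc.relIndex_dvd_relIndex_right hLW) ?_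
    rw [sup_comm, relIndex_sup_right]
    exact O.relIndex_dvd_card (P : Subgroup (Cz x))
  have hL0 : L' = (O ⊓ L') ⊔ ((P : Subgroup (Cz x)) ⊓ L') := by
    refine (eq_of_le_of_card_ge (sup_le inf_le_right inf_le_right) (Nat.le_of_dvd Nat.card_pos ?_)).symm
    have hmul : Nat.card (O ⊓ L' : Subgroup (Cz x)) * O.relIndex L' = Nat.card L' := by
      rw [Subgroup.relIndex, ← (O.subgroupOf L').card_mul_index]
      congr 1
      rw [← subgroupOf_map_subtype O L',
        ← Nat.card_congr (equivMapOfInjective _ _ L'.subtype_injective).toEquiv]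
    obtain ⟨j, -, hj⟩ := (Nat.dvd_prime_pow h.pp.hs).1
      (hrel.trans (dvd_of_eq P.card_eq_multiplicity))
    obtain ⟨i, hi⟩ := IsPGroup.iff_card.1 ((CfsgLib.Solvable.pCore_isPGroup q (Cz x)).to_le inf_le_left :
      IsPGroup q (O ⊓ L' : Subgroup (Cz x)))
    rw [← hmul]
    refine Nat.Coprime.mul_dvd_of_dvd_of_dvd ?_ (card_dvd_of_le le_sup_left) ?_
    · rw [hi, hj]; exact ((Nat.coprime_primes h.pp.hr h.pp.hs).2 h.pp.ne.symm).pow i j
    · refine dvd_trans ?_ (hPL ▸ card_dvd_of_le le_sup_right)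
      rw [hj]
      refine pow_dvd_pow s ((h.pp.hs.pow_dvd_iff_le_factorization Nat.card_pos.ne').1 ?_)
      exact hj ▸ Dvd.intro_left _ hmul
  intro v hv
  have hmem : (⟨v, hLx hv⟩ : (Cz x)) ∈ (O ⊓ L') ⊔ ((P : Subgroup (Cz x)) ⊓ L') :=
    hL0 ▸ mem_subgroupOf.2 hv
  have h2 := mem_map_of_mem (Cz x).subtype hmem
  rw [Subgroup.map_sup] at h2
  refine sup_le_sup hO' (fun w hw => ?_) h2
  obtain ⟨t, ht, rfl⟩ := hw
  exact ⟨(Subgroup.mem_map.2 ⟨t, ht.1, rfl⟩ : (Cz x).subtype t ∈ (P : Subgroup (Cz x)).map (Cz x).subtype), mem_subgroupOf.1 ht.2⟩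

/-- The main structural consequence of a non-central `q`-core. -/
theorem half [Fact s.Prime] (hN : ¬ Cfsg.pCore q G ≤ center G) :
    ∃ x y : G, x ∈ Cfsg.pCore q G ∧ PEl q x ∧ (Cz x).index = n ∧
      y ∈ Cfsg.pCore s G ∧ PEl s y ∧ (Cz y).index = m ∧
      (∀ a ∈ Cfsg.pCore s G, ∀ b ∈ Cfsg.pCore s G, Commute a b) ∧
      ∀ v : G, PEl s v → v ∈ Subgroup.centralizer (coreCenter q G : Set G) →
        v ∈ Cfsg.pCore s G := by
  haveI := Fact.mk h.pp.hr
  haveI := CfsgLib.Solvable.pCore_normal q G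
  haveI := CfsgLib.Solvable.pCore_normal s G
  obtain ⟨x, hxN, hxq, hx⟩ := h.exists_n_mem hN
  set N := Cfsg.pCore q G with hNdef
  set V := coreCenter q G with hVdef
  haveI hVn : V.Normal := by rw [hVdef, coreCenter]; infer_instance
  have hVN : V ≤ N := inf_le_left
  have hxV : x ∈ V := ⟨hxN, mem_centralizer_iff.2 fun v hv =>
    mem_Cz.1 (h.pCore_le_Cz hxq hx hv)⟩
  have hNV : N ≤ Subgroup.centralizer (V : Set G) := fun v hv => mem_centralizer_iff.2 fun w hw =>
    (mem_centralizer_iff.1 hw.2 v hv).symm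
  haveI hVab : IsMulCommutative V := ⟨⟨fun a b => Subtype.ext
    (mem_centralizer_iff.1 b.2.2 a a.2.1)⟩⟩
  have hVq : IsPGroup q V := (CfsgLib.Solvable.pCore_isPGroup q G).to_le hVN
  obtain ⟨y, S, hys, hy, hSy, hxy⟩ := h.exists_m_commute hxq hx
  -- `y` centralises `V`
  set E : Set G := {v | PEl s v ∧ ∀ g : G, Commute (g * x * g⁻¹) v} with hE
  set L := closure E with hLdef
  haveI hLn : L.Normal := by
    haveI hnc : (normalClosure E).Normal := normalClosure_normal
    suffices L = normalClosure E by rw [this]; exact hnc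
    refine le_antisymm closure_le_normalClosure ((closure_le _).2 fun w hw => ?_)
    obtain ⟨v, hv, hvw⟩ := Group.mem_conjugatesOfSet_iff.1 hw
    obtain ⟨c, rfl⟩ := isConj_iff.1 hvw
    refine subset_closure ⟨hv.1.conj c, fun g => ?_⟩
    have := hv.2 (c⁻¹ * g)
    have h2 := this.map (MulAut.conj c).toMonoidHom
    simpa [mul_assoc] using h2
  have hLx : L ≤ Cz x := (closure_le _).2 fun v hv =>
    mem_Cz.2 (by simpa using (hv.2 1).symm)
  have hyL : y ∈ L := subset_closure ⟨hys, fun g => h.conj_commute hx S hSy hxy g⟩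
  have hLV : L ≤ Subgroup.centralizer (V : Set G) := by
    rw [le_centralizer_iff, ← commutator_eq_bot_iff_le_centralizer]
    by_contra hne
    obtain ⟨c, hc, hc1⟩ := (Subgroup.bot_or_exists_ne_one _).resolve_left hne
    have hcV : c ∈ V := commutator_le_left V L hc
    obtain ⟨P₀⟩ := (inferInstance : Nonempty (Sylow s (Cz x)))
    -- the disjointness
    have hdis : ∀ w ∈ V, w ∈ ⁅V, L⁆ → w ∈ Subgroup.centralizer (L : Set G) → w = 1 := by
      intro w hwV hw1 hw2
      set A : Subgroup G := (P₀ : Subgroup (Cz x)).map (Cz x).subtype ⊓ L with hA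
      have hAn : A ≤ normalizer (V : Set G) := by
        rw [normalizer_eq_top]; exact le_top
      have hcop : (Nat.card A).Coprime (Nat.card V) := by
        obtain ⟨i, hi⟩ := IsPGroup.iff_card.1 ((P₀.2.map (Cz x).subtype).to_le inf_le_left :
          IsPGroup s A)
        obtain ⟨j, hj⟩ := IsPGroup.iff_card.1 hVq
        rw [hi, hj]
        exact ((Nat.coprime_primes h.pp.hs h.pp.hr).2 h.pp.ne).pow i j
      have hVA : ⁅V, L⁆ ≤ ⁅V, A⁆ := by
        rw [commutator_le]
        intro v hv l hl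
        have hl' := h.le_sup_of_gen hxq hx L hLx (fun w hw => hw.1) rfl P₀ hl
        rw [← SetLike.mem_coe, Subgroup.normal_mul, Set.mem_mul] at hl'
        obtain ⟨ν, hν, α, hα, rfl⟩ := hl'
        have hvν : Commute ν v := (mem_centralizer_iff.1 (hNV hν) v hv).symm
        have hcm : ⁅v, α⁆ ∈ V := by
          rw [commutatorElement_def, mul_assoc, mul_assoc]
          refine mul_mem hv ?_
          rw [← mul_assoc]
          exact hVn.conj_mem _ (inv_mem hv) α
        have hν2 : Commute ν ⁅v, α⁆ := (mem_centralizer_iff.1 (hNV hν) _ hcm).symm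
        have e : ⁅v, ν * α⁆ = ⁅v, α⁆ := by
          rw [commutatorElement_def, mul_inv_rev]
          calc v * (ν * α) * v⁻¹ * (α⁻¹ * ν⁻¹) = (v * ν) * (α * v⁻¹ * α⁻¹) * ν⁻¹ := by group
            _ = (ν * v) * (α * v⁻¹ * α⁻¹) * ν⁻¹ := by rw [hvν.eq]
            _ = ν * ⁅v, α⁆ * ν⁻¹ := by rw [commutatorElement_def]; group
            _ = ⁅v, α⁆ := by rw [hν2.eq, mul_inv_cancel_right]
        rw [e]
        exact commutator_mem_commutator hv hα
      have h0 : w ∈ (V ⊓ Subgroup.centralizer (A : Set G)) ⊓ ⁅V, A⁆ :=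
        ⟨⟨hwV, Subgroup.centralizer_le (fun a ha => (inf_le_right : A ≤ L) ha) hw2⟩, hVA hw1⟩
      rwa [CfsgLib.Solvable.centralizer_inf_commutator_eq_bot hAn hcop, mem_bot] at h0
    have hcZ : c ∉ center G := fun hz => hc1 (hdis c hcV hc (center_le_centralizer _ hz))
    have hxL : x ∈ Subgroup.centralizer (L : Set G) :=
      mem_centralizer_iff.2 fun l hl => (mem_Cz.1 (hLx hl)).eq
    -- the centraliser of `x * c`
    have hsplit : Cz (x * c) ≤ Cz x ⊓ Cz c := by
      intro g hg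
      have hg' : g * (x * c) * g⁻¹ = x * c := by rw [(mem_Cz.1 hg).eq, mul_inv_cancel_right]
      have e : x⁻¹ * (g * x * g⁻¹) = c * (g * c * g⁻¹)⁻¹ := by
        rw [eq_mul_inv_iff_mul_eq]
        calc x⁻¹ * (g * x * g⁻¹) * (g * c * g⁻¹) = x⁻¹ * (g * (x * c) * g⁻¹) := by group
          _ = c := by rw [hg']; group
      haveI : (⁅V, L⁆).Normal := inferInstance
      haveI : (Subgroup.centralizer (L : Set G)).Normal := inferInstance
      have h1 : x⁻¹ * (g * x * g⁻¹) = 1 := by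
        refine hdis _ (mul_mem (inv_mem hxV) (hVn.conj_mem x hxV g)) ?_
          (mul_mem (inv_mem hxL) ((inferInstance : (Subgroup.centralizer (L : Set G)).Normal).conj_mem
            x hxL g))
        rw [e]
        exact mul_mem hc (inv_mem ((inferInstance : (⁅V, L⁆).Normal).conj_mem c hc g))
      have h2 : c * (g * c * g⁻¹)⁻¹ = 1 := e ▸ h1
      exact ⟨mem_Cz.2 (mul_inv_eq_iff_eq_mul.1 (inv_mul_eq_one.1 h1).symm),
        mem_Cz.2 (mul_inv_eq_iff_eq_mul.1 (mul_inv_eq_one.1 h2).symm)⟩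
    have hxcq : PEl q (x * c) :=
      PEl.of_mem (CfsgLib.Solvable.pCore_isPGroup q G) (mul_mem hxN (hVN hcV))
    have hxcn : n ∣ (Cz (x * c)).index :=
      hx ▸ index_dvd_of_le (hsplit.trans inf_le_left)
    obtain ⟨T⟩ := (inferInstance : Nonempty (Sylow s (Cz (x * c))))
    set T' : Subgroup G := (T : Subgroup (Cz (x * c))).map (Cz (x * c)).subtype with hT'
    have hT'x : T' ≤ Cz x := le_trans (map_subtype_le _) (hsplit.trans inf_le_left)
    obtain ⟨P, hP⟩ := ((T.2.map _ : IsPGroup s T').comap_subtype (K := Cz x)).exists_le_sylow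
    have hPT : (P : Subgroup (Cz x)).map (Cz x).subtype = T' := by
      refine (eq_of_le_of_card_ge (fun w hw => Subgroup.mem_map.2 ⟨⟨w, hT'x hw⟩, hP (mem_subgroupOf.2 hw), rfl⟩)
        (le_of_eq ?_)).symm
      rw [hT', ← Nat.card_congr (equivMapOfInjective _ _ (Cz x).subtype_injective).toEquiv,
        ← Nat.card_congr (equivMapOfInjective _ _ (Cz (x * c)).subtype_injective).toEquiv,
        P.card_eq_multiplicity, T.card_eq_multiplicity, h.fact_cent hxcn (dvd_of_eq hx.symm)]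
    have hLc : L ≤ Cz c := by
      refine le_trans (h.le_sup_of_gen hxq hx L hLx (fun w hw => hw.1) rfl P) (sup_le ?_ ?_)
      · exact fun w hw => mem_Cz.2 (mem_centralizer_iff.1 (hNV hw) c hcV).symm
      · rw [hPT]
        exact inf_le_left.trans ((map_subtype_le _).trans (hsplit.trans inf_le_right))
    exact hc1 (hdis c hcV hc (mem_centralizer_iff.2 fun l hl => (mem_Cz.1 (hLc hl)).eq))
  -- the Sylow subgroup `T` of the part generated in the centraliser of `V`
  set E' : Set G := {v | PEl s v ∧ v ∈ Subgroup.centralizer (V : Set G)} with hE'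
  set L' := closure E' with hL'def
  haveI hL'n : L'.Normal := by
    haveI hnc : (normalClosure E').Normal := normalClosure_normal
    suffices L' = normalClosure E' by rw [this]; exact hnc
    refine le_antisymm closure_le_normalClosure ((closure_le _).2 fun w hw => ?_)
    obtain ⟨v, hv, hvw⟩ := Group.mem_conjugatesOfSet_iff.1 hw
    obtain ⟨c, rfl⟩ := isConj_iff.1 hvw
    exact subset_closure ⟨hv.1.conj c, (inferInstance :
      (Subgroup.centralizer (V : Set G)).Normal).conj_mem v hv.2 c⟩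
  have hL'x : L' ≤ Cz x := (closure_le _).2 fun v hv =>
    mem_Cz.2 (mem_centralizer_iff.1 hv.2 x hxV).symm
  have hyL' : y ∈ L' := subset_closure ⟨hys, hLV hyL⟩
  obtain ⟨k, hk⟩ := id hys
  obtain ⟨P, hP⟩ := (IsPGroup.of_card (n := k) (by
    rw [Nat.card_zpowers, Subgroup.orderOf_mk, hk]) :
    IsPGroup s (zpowers (⟨y, hL'x hyL'⟩ : Cz x))).exists_le_sylow
  set PG : Subgroup G := (P : Subgroup (Cz x)).map (Cz x).subtype with hPG
  set T := PG ⊓ L' with hTdef
  have hTs : IsPGroup s T := (P.2.map _).to_le inf_le_left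
  have hyT : y ∈ T := ⟨⟨_, hP (mem_zpowers _), rfl⟩, hyL'⟩
  have hTx : T ≤ Cz x := inf_le_right.trans hL'x
  set e := (Nat.card (Cz x)).factorization s with he
  obtain ⟨i, hi⟩ := IsPGroup.iff_card.1 hTs
  have hie : i ≤ e := by
    have h1 := fact_le_of_le hTx s
    rwa [hi, Nat.Prime.factorization_pow h.pp.hs, Finsupp.single_eq_same] at h1
  set M1 := N ⊔ T with hM1
  have hL'M : L' ≤ M1 := h.le_sup_of_gen hxq hx L' hL'x (fun w hw => hw.1) rfl P
  haveI hM1n : M1.Normal := by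
    have : M1 = N ⊔ L' :=
      le_antisymm (sup_le_sup_left inf_le_right _) (sup_le le_sup_left hL'M)
    rw [this]; infer_instance
  have hM1s : (Nat.card M1).factorization s ≤ i := by
    have h1 := (Nat.factorization_le_iff_dvd Nat.card_pos.ne'
      (Nat.mul_ne_zero Nat.card_pos.ne' Nat.card_pos.ne')).2
        (CfsgLib.Solvable.card_sup_dvd_mul N T) s
    obtain ⟨j, hj⟩ := IsPGroup.iff_card.1 (CfsgLib.Solvable.pCore_isPGroup q G : IsPGroup q N)
    rw [Nat.factorization_mul Nat.card_pos.ne' Nat.card_pos.ne', Finsupp.add_apply, hj, hi,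
      Nat.Prime.factorization_pow h.pp.hr, Nat.Prime.factorization_pow h.pp.hs,
      Finsupp.single_eq_of_ne h.pp.ne, Finsupp.single_eq_same, zero_add] at h1
    exact h1
  have hTM : T ≤ M1 := le_sup_right
  let TS : Sylow s M1 := Sylow.ofCard (T.subgroupOf M1) (by
    rw [Nat.card_congr (subgroupOfEquivOfLe hTM).toEquiv, hi]
    refine congrArg (s ^ ·) (le_antisymm ?_ hM1s)
    have h1 := fact_le_of_le hTM s
    rwa [hi, Nat.Prime.factorization_pow h.pp.hs, Finsupp.single_eq_same] at h1)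
  have hTSmap : (TS : Subgroup M1).map M1.subtype = T := by
    show (T.subgroupOf M1).map M1.subtype = T
    rw [subgroupOf_map_subtype, inf_eq_left.2 hTM]
  have hcov : (Subgroup.centralizer (T : Set G)).subgroupOf N = ⊤ := by
    refine CfsgLib.FGStruct.PPowerClass.eq_top_of_conj_cover _ fun u => ?_
    obtain ⟨u, hu⟩ := u
    have huq : PEl q u := PEl.of_mem (CfsgLib.Solvable.pCore_isPGroup q G) hu
    by_cases hnm : (Cz u).index = n * m
    swap
    · refine ⟨1, mem_subgroupOf.2 (mem_centralizer_iff.2 fun t ht => ?_)⟩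
      simp only [inv_one, one_mul, mul_one]
      by_cases huZ : u ∈ center G
      · exact mem_center_iff.1 huZ t
      have hun : (Cz u).index = n := by
        rcases h.pp.hyp.sizes u with e | e | e | e
        · exact absurd ((idx_eq_one_iff u).1 e) huZ
        · exact e
        · exact absurd e (h.noQ u huq)
        · exact absurd e hnm
      have huV : u ∈ V := ⟨hu, mem_centralizer_iff.2 fun v hv =>
        mem_Cz.1 (h.pCore_le_Cz huq hun hv)⟩
      have htV : t ∈ Subgroup.centralizer (V : Set G) := by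
        have : t ∈ L' := (inf_le_right : T ≤ L') ht
        exact (closure_le _).2 (fun v hv => hv.2) this
      exact (mem_centralizer_iff.1 htV u huV).symm
    have hCuV : Cz u ≤ Subgroup.centralizer (V : Set G) := fun g hg => mem_centralizer_iff.2
      fun v hv => (h.comm_of_nm huq hnm
        (mem_Cz.2 (mem_centralizer_iff.1 hv.2 u hu).symm) hg).eq
    obtain ⟨R⟩ := (inferInstance : Nonempty (Sylow s (Cz u)))
    set R' : Subgroup G := (R : Subgroup (Cz u)).map (Cz u).subtype with hR'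
    have hR'M : R' ≤ M1 := fun w hw => hL'M (subset_closure
      ⟨PEl.of_mem (R.2.map _) hw, hCuV (map_subtype_le _ hw)⟩)
    obtain ⟨R₁, hR₁⟩ := ((R.2.map _ : IsPGroup s R').comap_subtype (K := M1)).exists_le_sylow
    obtain ⟨c, hc⟩ := MulAction.exists_smul_eq M1 TS R₁
    have hcard : Nat.card R₁ ≤ Nat.card R' := by
      rw [R₁.card_eq_multiplicity, hR',
        ← Nat.card_congr (equivMapOfInjective _ _ (Cz u).subtype_injective).toEquiv,
        R.card_eq_multiplicity, h.fact_cent (hnm ▸ dvd_mul_right n m) (dvd_of_eq hx.symm)]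
      exact Nat.pow_le_pow_right h.pp.hs.pos (hM1s.trans hie)
    have heq : R'.subgroupOf M1 = R₁ := eq_of_le_of_card_ge hR₁ (by
      rwa [Nat.card_congr (subgroupOfEquivOfLe hR'M).toEquiv])
    have hcmem : (c : G) ∈ N ⊔ T := c.2
    rw [← SetLike.mem_coe, Subgroup.normal_mul, Set.mem_mul] at hcmem
    obtain ⟨ν, hν, τ, hτ, hντ⟩ := hcmem
    refine ⟨⟨ν, hν⟩, mem_subgroupOf.2 (mem_centralizer_iff.2 fun t ht => ?_)⟩
    have ht' : τ⁻¹ * t * τ ∈ T := mul_mem (mul_mem (inv_mem hτ) ht) hτ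
    have h1 : c * ⟨τ⁻¹ * t * τ, hTM ht'⟩ * c⁻¹ ∈ (R₁ : Subgroup M1) := by
      rw [← hc, Sylow.coe_subgroup_smul]
      exact ⟨_, mem_subgroupOf.2 ht', rfl⟩
    rw [← heq, mem_subgroupOf] at h1
    have h2 := (mem_Cz.1 (map_subtype_le _ h1 : _ ∈ Cz u)).eq
    simp only [Subgroup.coe_mul, Subgroup.coe_inv] at h2
    rw [← hντ] at h2
    have h3 : ν * τ * (τ⁻¹ * t * τ) * (ν * τ)⁻¹ = ν * t * ν⁻¹ := by group
    rw [h3] at h2
    simp only [Subgroup.coe_mul, Subgroup.coe_inv]
    calc t * (ν⁻¹ * u * ν) = ν⁻¹ * (ν * t * ν⁻¹ * u) * ν := by group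
      _ = ν⁻¹ * u * ν * t := by rw [h2]; group
  have hNT : N ≤ Subgroup.centralizer (T : Set G) := subgroupOf_eq_top.1 hcov
  have hM1T : M1 ≤ normalizer (T : Set G) :=
    sup_le (hNT.trans (centralizer_le_normalizer _)) le_normalizer
  haveI hTn : T.Normal := by
    have h1 := Sylow.normalizer_sup_eq_top TS
    rw [hTSmap, sup_eq_left.2 hM1T] at h1
    exact normalizer_eq_top_iff.1 h1
  have hTle : T ≤ Cfsg.pCore s G := CfsgLib.Solvable.le_pCore hTn hTs
  have hMV : ∀ v ∈ Cfsg.pCore s G, v ∈ Subgroup.centralizer (V : Set G) := by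
    intro v hv
    refine mem_centralizer_iff.2 fun w hw => ?_
    exact Subgroup.commute_of_normal_of_disjoint N (Cfsg.pCore s G) inferInstance inferInstance
      (IsPGroup.disjoint_of_ne q s h.pp.ne.symm _ _ (CfsgLib.Solvable.pCore_isPGroup q G)
        (CfsgLib.Solvable.pCore_isPGroup s G)) w v (hVN hw) hv
  have hM1el : ∀ v ∈ M1, PEl s v → v ∈ T := by
    intro v hv ⟨j, hj⟩
    haveI : (TS : Subgroup M1).Normal := by
      show (T.subgroupOf M1).Normal
      infer_instance
    obtain ⟨T₁, hT₁⟩ := (IsPGroup.of_card (n := j) (by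
      rw [Nat.card_zpowers, Subgroup.orderOf_mk, hj]) :
      IsPGroup s (zpowers (⟨v, hv⟩ : M1))).exists_le_sylow
    haveI := Sylow.unique_of_normal TS inferInstance
    rw [Subsingleton.elim T₁ TS] at hT₁
    exact mem_subgroupOf.1 (hT₁ (mem_zpowers _))
  have hMT : ∀ v ∈ Cfsg.pCore s G, v ∈ T := fun v hv =>
    hM1el v (hL'M (subset_closure
      ⟨PEl.of_mem (CfsgLib.Solvable.pCore_isPGroup s G) hv, hMV v hv⟩))
      (PEl.of_mem (CfsgLib.Solvable.pCore_isPGroup s G) hv)
  refine ⟨x, y, hxN, hxq, hx, hTle hyT, hys, hy, fun a ha b hb => ?_, fun v hvs hv => ?_⟩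
  · exact h.commute_of_isPGroup hxq hx hTx hTs (hMT a ha) (hMT b hb)
  · exact hTle (hM1el v (hL'M (subset_closure ⟨hvs, hv⟩)) hvs)

end NN

end CfsgLib.ClassSize.FourSizes
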