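import Cfsg.Agent.Lib.ClassSize.FourSizes.Basic
import Cfsg.Agent.Lib.Solvable.Core
import Cfsg.Agent.S4127
import Cfsg.Agent.S4125

/-!
# Class sizes `1, s^a, r^b, s^a r^b`: consequences of a primary element with class size `s^a`
-/

set_option autoImplicit false
set_option linter.style.haveILetI false
set_option linter.unusedSectionVars false

open scoped Pointwise

namespace CfsgLib.ClassSize.FourSizes

open Subgroup CfsgLib.ClassSize.Three

variable {G : Type*} [Group G] [Finite G]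

/-- The class sizes are `1, n, m, n * m` with `n` a power of the prime `s` and `m` one of `r`. -/
structure PP (G : Type*) [Group G] (n m s r : ℕ) : Prop where
  hyp : Hyp G n m
  hs : s.Prime
  hr : r.Prime
  hn : ∃ a, n = s ^ a
  hm : ∃ b, m = r ^ b

namespace PP

variable {n m s r : ℕ} (h : PP G n m s r)

include h

theorem symm : PP G m n r s := ⟨h.hyp.symm, h.hr, h.hs, h.hm, h.hn⟩

theorem s_dvd_n : s ∣ n := by
  obtain ⟨a, ha⟩ := h.hn
  rcases a with _ | a
  · have := h.hyp.hn; rw [pow_zero] at ha; omega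
  · exact ha ▸ dvd_pow_self s a.succ_ne_zero

theorem ne : s ≠ r := fun e =>
  h.hyp.not_dvd_of_dvd_m h.hr h.symm.s_dvd_n (e ▸ h.s_dvd_n)

theorem not_dvd_idx {t : ℕ} (ht : t.Prime) (hts : t ≠ s) (htr : t ≠ r) (x : G) :
    ¬ t ∣ (Cz x).index := by
  obtain ⟨a, ha⟩ := h.hn
  obtain ⟨b, hb⟩ := h.hm
  have hn' : ¬ t ∣ n := fun hd => hts ((Nat.prime_dvd_prime_iff_eq ht h.hs).1
    (ht.dvd_of_dvd_pow (ha ▸ hd)))
  have hm' : ¬ t ∣ m := fun hd => htr ((Nat.prime_dvd_prime_iff_eq ht h.hr).1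
    (ht.dvd_of_dvd_pow (hb ▸ hd)))
  rcases h.hyp.sizes x with e | e | e | e <;> rw [e]
  · exact fun hd => ht.ne_one (Nat.dvd_one.1 hd)
  · exact hn'
  · exact hm'
  · exact fun hd => (ht.dvd_mul.1 hd).elim hn' hm'

theorem sylow_other_le_center {t : ℕ} [Fact t.Prime] (hts : t ≠ s) (htr : t ≠ r)
    (T : Sylow t G) : (T : Subgroup G) ≤ center G := by
  have htop : Subgroup.centralizer ((T : Subgroup G) : Set G) = ⊤ := by
    refine CfsgLib.FGStruct.PPowerClass.eq_top_of_conj_cover _ fun g => ?_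
    obtain ⟨T', hT'⟩ := (exists_sylow_le_centralizer_iff t g).2 (h.not_dvd_idx Fact.out hts htr g)
    obtain ⟨c, hc⟩ := MulAction.exists_smul_eq G T T'
    refine ⟨c, mem_centralizer_iff.2 fun x hx => ?_⟩
    have h1 : c * x * c⁻¹ ∈ (T' : Subgroup G) := by
      rw [← hc, Sylow.coe_subgroup_smul]
      exact ⟨x, hx, rfl⟩
    have h2 : c * x * c⁻¹ * g = g * (c * x * c⁻¹) := mem_centralizer_singleton_iff.1 (hT' h1)
    calc x * (c⁻¹ * g * c) = c⁻¹ * (c * x * c⁻¹ * g) * c := by group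
      _ = c⁻¹ * g * c * x := by rw [h2]; group
  intro x hx
  exact mem_center_iff.2 fun g => (mem_centralizer_iff.1 (htop ▸ mem_top g) x hx).symm

theorem pel_other_mem_center {t : ℕ} (ht : t.Prime) (hts : t ≠ s) (htr : t ≠ r) {u : G}
    (hu : PEl t u) : u ∈ center G := by
  haveI := Fact.mk ht
  obtain ⟨k, hk⟩ := hu
  obtain ⟨T, hT⟩ := (IsPGroup.of_card (n := k) (by rw [Nat.card_zpowers, hk]) :
    IsPGroup t (zpowers u)).exists_le_sylow
  exact h.sylow_other_le_center hts htr T (hT (mem_zpowers u))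

/-- Subgroups above the centre are compared through their `s`- and `r`-parts. -/
theorem eq_of_parts {H K : Subgroup G} (hHK : H ≤ K) (hZ : center G ≤ H)
    (hs' : (Nat.card K).factorization s ≤ (Nat.card H).factorization s)
    (hr' : (Nat.card K).factorization r ≤ (Nat.card H).factorization r) : H = K := by
  refine eq_of_le_of_card_ge hHK (Nat.le_of_dvd Nat.card_pos ?_)
  rw [← Nat.factorization_le_iff_dvd Nat.card_pos.ne' Nat.card_pos.ne', Finsupp.le_def]
  intro t
  by_cases ht : t.Prime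
  · rcases eq_or_ne t s with rfl | hts
    · exact hs'
    rcases eq_or_ne t r with rfl | htr
    · exact hr'
    haveI := Fact.mk ht
    obtain ⟨T⟩ := (inferInstance : Nonempty (Sylow t G))
    have h1 := fact_le_of_le (le_trans (h.sylow_other_le_center hts htr T) hZ) t
    rw [T.card_eq_multiplicity, Nat.Prime.factorization_pow ht, Finsupp.single_eq_same] at h1
    exact le_trans (Nat.le.intro (fact_add K t)) h1
  · rw [Nat.factorization_eq_zero_of_not_prime _ ht]
    exact Nat.zero_le _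

/-- An `s`-element with class size `n` makes the Sylow `r`-subgroup normal. -/
theorem mem_sylow_of_pel {x₀ : G} (hx₀s : PEl s x₀) (hx₀ : (Cz x₀).index = n)
    {R : Subgroup G} [hrf : Fact r.Prime] (RS : Sylow r G) (hR : R = RS) {w : G} (hw : PEl r w) :
    w ∈ R := by
  haveI := Fact.mk h.hs
  obtain ⟨a, ha⟩ := h.hn
  have hmax : ∀ y : G, ¬ s ^ (a + 1) ∣ (Cz y).index := by
    intro y hd
    have hsm : ¬ s ∣ m := fun hsm => h.hyp.not_dvd_of_dvd_m h.hs hsm h.s_dvd_n
    rcases h.hyp.sizes y with e | e | e | e <;> rw [e] at hd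
    · exact h.hs.ne_one (Nat.dvd_one.1 ((dvd_pow_self s a.succ_ne_zero).trans hd))
    · rw [ha] at hd
      exact absurd (Nat.le_of_dvd (pow_pos h.hs.pos a) hd)
        (not_le.2 (Nat.pow_lt_pow_right h.hs.one_lt a.lt_succ_self))
    · exact hsm ((dvd_pow_self s a.succ_ne_zero).trans hd)
    · rw [ha, pow_succ] at hd
      exact hsm (Nat.dvd_of_mul_dvd_mul_left (pow_pos h.hs.pos a) hd)
  obtain ⟨S, N, hN, hc⟩ := Cfsg.Agent.S4127.result s a hmax ⟨x₀, hx₀s, hx₀.trans ha⟩
  haveI := hN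
  have hNidx : N.index = s ^ (Nat.card G).factorization s := by
    rw [hc.symm.index_eq_card]; exact S.card_eq_multiplicity
  have hin : ∀ v : G, PEl r v → v ∈ N := by
    rintro v ⟨k, hk⟩
    have hd2 : orderOf (QuotientGroup.mk' N v) ∣ N.index := orderOf_dvd_natCard _
    rw [hNidx] at hd2
    exact (QuotientGroup.eq_one_iff v).1 (orderOf_eq_one_iff.1 (Nat.eq_one_of_dvd_coprimes
      ((Nat.coprime_primes h.hr h.hs).2 h.ne.symm |>.pow k _) (hk ▸ orderOf_map_dvd (QuotientGroup.mk' N) v) hd2))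
  have hRN : (RS : Subgroup G) ≤ N := fun v hv => hin v (PEl.of_mem RS.2 hv)
  have hK : (RS : Subgroup G) ⊔ center G = N ⊔ center G := by
    refine h.eq_of_parts (sup_le_sup_right hRN _) le_sup_right ?_ ?_
    · refine le_trans ?_ (fact_le_of_le le_sup_right s)
      have h1 := (Nat.factorization_le_iff_dvd Nat.card_pos.ne'
        (Nat.mul_ne_zero Nat.card_pos.ne' Nat.card_pos.ne')).2
          (CfsgLib.Solvable.card_sup_dvd_mul N (center G)) s
      have h2 := fact_add N s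
      rw [hNidx, Nat.Prime.factorization_pow h.hs, Finsupp.single_eq_same] at h2
      rw [Nat.factorization_mul Nat.card_pos.ne' Nat.card_pos.ne', Finsupp.add_apply] at h1
      omega
    · refine le_trans ?_ (fact_le_of_le le_sup_left r)
      rw [RS.card_eq_multiplicity, Nat.Prime.factorization_pow h.hr, Finsupp.single_eq_same]
      exact Nat.le.intro (fact_add _ r)
  have hmem : w ∈ (RS : Subgroup G) ⊔ center G := hK ▸ mem_sup_left (hin w hw)
  rw [← SetLike.mem_coe, Subgroup.mul_normal, Set.mem_mul] at hmem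
  obtain ⟨a', ha', z, hz, rfl⟩ := hmem
  rw [hR]
  refine mul_mem ha' ?_
  have hcz : Commute a' z := mem_center_iff.1 hz a'
  have hzr : ∃ k, orderOf z = r ^ k := by
    obtain ⟨i, hi⟩ := hw
    obtain ⟨j, hj⟩ := PEl.of_mem RS.2 ha'
    have hd : orderOf z ∣ r ^ (i + j) := by
      rw [orderOf_dvd_iff_pow_eq_one]
      have h1 : (a' * z) ^ r ^ (i + j) = 1 := by
        rw [pow_add, pow_mul, ← hi, pow_orderOf_eq_one, one_pow]
      have h2 : a' ^ r ^ (i + j) = 1 := by
        rw [add_comm, pow_add, pow_mul, ← hj, pow_orderOf_eq_one, one_pow]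
      rwa [hcz.mul_pow, h2, one_mul] at h1
    obtain ⟨k, -, hk⟩ := (Nat.dvd_prime_pow h.hr).1 hd
    exact ⟨k, hk⟩
  exact Cfsg.Agent.S4125.mem_of_centralizes hzr RS fun v _ =>
    mem_centralizer_singleton_iff.2 (mem_center_iff.1 hz v)

/-- A `s`-element with class size `n` forces an `r`-element with class size `m`. -/
theorem exists_pel_m {x₀ : G} (hx₀s : PEl s x₀) (hx₀ : (Cz x₀).index = n) :
    ∃ u : G, PEl r u ∧ (Cz u).index = m := by
  haveI := Fact.mk h.hs
  haveI := Fact.mk h.hr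
  by_contra hno
  obtain ⟨RS⟩ := (inferInstance : Nonempty (Sylow r G))
  set R : Subgroup G := (RS : Subgroup G) with hRdef
  have hRmem : ∀ {v : G}, PEl r v → v ∈ R := fun {v} hv => h.mem_sylow_of_pel hx₀s hx₀ RS rfl hv
  haveI hRn : R.Normal := ⟨fun v hv g => hRmem ((PEl.of_mem RS.2 hv).conj g)⟩
  obtain ⟨t, y₁, ht, hy₁t, hy₁⟩ := h.hyp.symm.exists_primary_n
  have hy₁Z : y₁ ∉ center G := h.hyp.symm.not_mem_center_n hy₁
  have hts : t = s := by
    by_contra hts
    by_cases htr : t = r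
    · exact hno ⟨y₁, htr ▸ hy₁t, hy₁⟩
    · exact hy₁Z (h.pel_other_mem_center ht hts htr hy₁t)
  subst hts
  have hrn : ¬ r ∣ n := h.hyp.not_dvd_of_dvd_m h.hr h.symm.s_dvd_n
  have hsm : ¬ t ∣ m := fun hd => h.hyp.not_dvd_of_dvd_m h.hs hd h.s_dvd_n
  have hRC : ∀ x : G, ¬ r ∣ (Cz x).index → R ≤ Cz x := by
    intro x hx
    obtain ⟨R', hR'⟩ := (exists_sylow_le_centralizer_iff r x).2 hx
    exact fun v hv => hR' ((eq_of_le_of_card_ge (H := (R' : Subgroup G)) (K := R)
      (fun w hw => hRmem (PEl.of_mem R'.2 hw))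
      (by rw [RS.card_eq_multiplicity, R'.card_eq_multiplicity])).symm ▸ hv)
  -- a Sylow subgroup centralised by an element with class size `m`, meeting the class of `x₀`
  obtain ⟨S, hS⟩ := (exists_sylow_le_centralizer_iff t y₁).2 (hy₁ ▸ hsm)
  obtain ⟨k₀, hk₀⟩ := hx₀s
  obtain ⟨S', hS'⟩ := (IsPGroup.of_card (n := k₀) (by rw [Nat.card_zpowers, hk₀]) :
    IsPGroup t (zpowers x₀)).exists_le_sylow
  obtain ⟨g, hg⟩ := MulAction.exists_smul_eq G S' S
  set x := g * x₀ * g⁻¹ with hxdef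
  have hxS : x ∈ (S : Subgroup G) := by
    rw [← hg, Sylow.coe_subgroup_smul]
    exact ⟨x₀, hS' (mem_zpowers x₀), rfl⟩
  have hx : (Cz x).index = n := by rw [hxdef, idx_conj, hx₀]
  have hxs : PEl t x := PEl.of_mem S.2 hxS
  have hRx : R ≤ Cz x := hRC x (hx ▸ hrn)
  have hyx : y₁ ∈ Cz x := Cz_le_iff_mem.1 (hS hxS)
  -- a Sylow subgroup of the centraliser containing `y₁`
  obtain ⟨k₁, hk₁⟩ := hy₁t
  obtain ⟨P, hP⟩ := (IsPGroup.of_card (n := k₁) (by
    rw [Nat.card_zpowers, Subgroup.orderOf_mk, hk₁]) :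
    IsPGroup t (zpowers (⟨y₁, hyx⟩ : Cz x))).exists_le_sylow
  set S₀ : Subgroup G := (P : Subgroup (Cz x)).map (Cz x).subtype with hS₀
  have hyS₀ : y₁ ∈ S₀ := ⟨⟨y₁, hyx⟩, hP (mem_zpowers _), rfl⟩
  have hRS₀ : R ≤ Subgroup.centralizer (S₀ : Set G) := by
    have hsup : R ⊔ (S₀ ⊔ center G) = Cz x := by
      refine h.eq_of_parts (sup_le hRx (sup_le (map_subtype_le _) (center_le_Cz x)))
        (le_trans le_sup_right le_sup_right) ?_ ?_
      · refine le_trans (le_of_eq ?_) (fact_le_of_le (le_trans le_sup_left le_sup_right) t)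
        rw [hS₀, ← Nat.card_congr (equivMapOfInjective _ _ (Cz x).subtype_injective).toEquiv,
          P.card_eq_multiplicity, Nat.Prime.factorization_pow h.hs, Finsupp.single_eq_same]
      · refine le_trans ?_ (fact_le_of_le le_sup_left r)
        rw [hRdef, RS.card_eq_multiplicity, Nat.Prime.factorization_pow h.hr, Finsupp.single_eq_same]
        exact Nat.le.intro (fact_add _ r)
    have hnorm : S₀ ⊔ center G ≤ normalizer (S₀ : Set G) :=
      sup_le le_normalizer (center_le_normalizer _)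
    have hcov : (Subgroup.centralizer (S₀ : Set G)).subgroupOf R = ⊤ := by
      refine CfsgLib.FGStruct.PPowerClass.eq_top_of_conj_cover _ fun u => ?_
      obtain ⟨u, hu⟩ := u
      have hco : (orderOf x).Coprime (orderOf u) :=
        hxs.coprime h.hs h.hr h.ne (PEl.of_mem RS.2 hu)
      have hidx : (Subgroup.centralizer ({(⟨u, hRx hu⟩ : Cz x)} : Set (Cz x))).index
          = (Cz u).relIndex (Cz x) := by
        rw [Subgroup.relIndex]
        congr 1
        ext w
        simp [mem_subgroupOf, Subgroup.mem_centralizer_singleton_iff, Subtype.ext_iff]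
      obtain ⟨P', hP'⟩ := (exists_sylow_le_centralizer_iff t (⟨u, hRx hu⟩ : Cz x)).2 (by
        rw [hidx]
        rcases h.hyp.inner_sizes hx (mem_Cz.1 (hRx hu)).symm hco with e | e <;> rw [e]
        · exact fun hd => h.hs.ne_one (Nat.dvd_one.1 hd)
        · exact hsm)
      obtain ⟨c, hc⟩ := MulAction.exists_smul_eq (Cz x) P P'
      have hcmem : (c : G) ∈ R ⊔ (S₀ ⊔ center G) := hsup.symm ▸ c.2
      rw [← SetLike.mem_coe, Subgroup.normal_mul, Set.mem_mul] at hcmem
      obtain ⟨ρ, hρ, ν, hν, hρν⟩ := hcmem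
      refine ⟨⟨ρ, hρ⟩, mem_subgroupOf.2 (mem_centralizer_iff.2 fun σ hσ => ?_)⟩
      obtain ⟨σ', hσ', hσ'e⟩ := (mem_normalizer_iff''.1 (hnorm hν) σ).1 hσ
      have h1 : (c * σ' * c⁻¹ : Cz x) ∈ (P' : Subgroup (Cz x)) := by
        rw [← hc, Sylow.coe_subgroup_smul]
        exact ⟨σ', hσ', rfl⟩
      have h2 := congrArg Subtype.val (mem_centralizer_singleton_iff.1 (hP' h1))
      simp only [Subgroup.coe_mul, Subgroup.coe_inv] at h2
      simp only [Subgroup.coe_subtype] at hσ'e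
      rw [hσ'e, ← hρν] at h2
      have h3 : ρ * ν * (ν⁻¹ * σ * ν) * (ρ * ν)⁻¹ = ρ * σ * ρ⁻¹ := by group
      rw [h3] at h2
      simp only [Subgroup.coe_mul, Subgroup.coe_inv]
      calc σ * (ρ⁻¹ * u * ρ) = ρ⁻¹ * (ρ * σ * ρ⁻¹ * u) * ρ := by group
        _ = ρ⁻¹ * u * ρ * σ := by rw [h2]; group
    exact subgroupOf_eq_top.1 hcov
  have hRy : R ≤ Cz y₁ := fun v hv =>
    mem_Cz.2 (mem_centralizer_iff.1 (hRS₀ hv) y₁ hyS₀).symm
  exact (exists_sylow_le_centralizer_iff r y₁).1 ⟨RS, hRy⟩ (hy₁ ▸ h.symm.s_dvd_n)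

end PP

end CfsgLib.ClassSize.FourSizes
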